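import Cfsg.Agent.Phan.ThreeHom
import Cfsg.Agent.LieClassical.FieldTransfer

/-!
# Phan's theorem for `SU 5`, `q = 3`, over any field with nine elements

`System.exists_hom_three` : a Phan system `φ, g` of rank five over a field with nine elements such
that neither `⟨φ 0, φ 1, φ 2⟩` nor `⟨φ 1, φ 2, φ 3⟩` has an element of order three centralised by
the three maps extends to a homomorphism from `SU 5 F 3`.
-/

set_option autoImplicit false

namespace Cfsg.Agent.Phan

open Matrix Cfsg
open Cfsg.Agent.LieClassical.FieldTransfer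
open Cfsg.Agent.ChevalleyStructure.NineField

variable {F K : Type*} [Field F] [Field K] {l m n q : ℕ}

theorem extM_map_hom (e : Fin m → Fin n) (A : Matrix (Fin m) (Fin m) F) (f : F →+* K) :
    (extM e A).map f = extM e (A.map f) := by
  have h1 : (inc F e).map f = inc K e := by
    ext x i
    rw [Matrix.map_apply, inc_apply, inc_apply]
    split <;> simp
  have h2 : ((inc F e)ᵀ).map f = (inc K e)ᵀ := by
    rw [Matrix.transpose_map, h1]
  rw [extM, extM]
  rw [Matrix.map_add f (map_add f), Matrix.map_mul, Matrix.map_mul, h1, h2,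
    Matrix.map_sub f (map_sub f), Matrix.map_one f (map_zero f) (map_one f),
    Matrix.map_one f (map_zero f) (map_one f)]

theorem mat_suCongr (e : F ≃+* K) (x : SU m F q) :
    mat (suCongr m q e x) = (mat x).map (e : F →+* K) := rfl

theorem suCongr_emb [Fintype F] [Fintype K] (e : F ≃+* K) (hF : Fintype.card F = q ^ 2)
    (hK : Fintype.card K = q ^ 2) {k : ℕ} (h : k + m ≤ n) (x : SU m F q) :
    suCongr n q e (emb hF k h x) = emb hK k h (suCongr m q e x) := by
  apply mat_inj
  rw [mat_suCongr]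
  change (extM (sh k h) (mat x)).map (e : F →+* K) = extM (sh k h) (mat (suCongr m q e x))
  rw [extM_map_hom, mat_suCongr]

/-- Phan systems along a field isomorphism. -/
theorem System.congr [Fintype F] [Fintype K] (e : K ≃+* F) {hF : Fintype.card F = q ^ 2}
    (hK : Fintype.card K = q ^ 2) {H : Type*} [Group H] {φ : ℕ → (SU 2 F q →* H)}
    {g : ℕ → (SU 3 F q →* H)} (h : System hF n φ g) :
    System hK n (fun k => (φ k).comp (suCongr 2 q e).toMonoidHom)
      (fun k => (g k).comp (suCongr 3 q e).toMonoidHom) := by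
  refine ⟨?_, ?_, ?_⟩
  · intro k hk a
    change g k (suCongr 3 q e (emb hK 0 _ a)) = φ k (suCongr 2 q e a)
    rw [suCongr_emb e hK hF]
    exact h.left k hk _
  · intro k hk a
    change g k (suCongr 3 q e (emb hK 1 _ a)) = φ (k + 1) (suCongr 2 q e a)
    rw [suCongr_emb e hK hF]
    exact h.right k hk _
  · intro i j hij hj a b
    exact h.comm i j hij hj _ _

/-- no element of order three of `⟨φ 0, φ 1, φ 2⟩` centralises `φ 0, φ 1, φ 2` -/
def Hz {F : Type*} [Field F] {H : Type*} [Group H] (φ : ℕ → (SU 2 F 3 →* H)) : Prop :=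
  ∀ x : H, x ∈ Subgroup.closure {y : H | ∃ j, j < 3 ∧ ∃ a, φ j a = y} →
    (∀ j, j < 3 → ∀ a, φ j a * x = x * φ j a) → x ^ 3 = 1 → x = 1

theorem Hz.congr {H : Type*} [Group H] {φ : ℕ → (SU 2 F 3 →* H)} (h : Hz φ) (e : K ≃+* F) :
    ThreeHom.Hz fun k => (φ k).comp (suCongr 2 3 e).toMonoidHom := by
  intro x hx hc h3
  refine h x ?_ ?_ h3
  · refine Subgroup.closure_mono ?_ hx
    rintro y ⟨j, hj, a, rfl⟩
    exact ⟨j, hj, suCongr 2 3 e a, rfl⟩
  · intro j hj a
    have := hc j hj ((suCongr 2 3 e).symm a)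
    change φ j (suCongr 2 3 e _) * x = x * φ j (suCongr 2 3 e _) at this
    rwa [MulEquiv.apply_symm_apply] at this

/-- **Phan's theorem, `q = 3`, `SU 5`.** -/
theorem System.exists_hom_three [Fintype F] {hF : Fintype.card F = 3 ^ 2} {H : Type*} [Group H]
    {φ : ℕ → (SU 2 F 3 →* H)} {g : ℕ → (SU 3 F 3 →* H)} (h : System hF 5 φ g) (hz0 : Hz φ)
    (hz1 : Hz fun j => φ (1 + j)) :
    ∃ Φ : SU 5 F 3 →* H, ∀ (k : ℕ) (hk : k + 3 ≤ 5) (x : SU 3 F 3),
      Φ (emb hF k hk x) = g k x := by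
  have hcard : Fintype.card F9 = Fintype.card F := by rw [ThreeModel.hF9, hF]
  let e : F9 ≃+* F := FiniteField.ringEquivOfCardEq hcard
  obtain ⟨Φ, hΦ⟩ := ThreeHom.exists_hom (h.congr e ThreeModel.hF9) (hz0.congr e) (hz1.congr e)
  refine ⟨Φ.comp (suCongr 5 3 e).symm.toMonoidHom, ?_⟩
  intro k hk x
  have h1 : (suCongr 5 3 e).symm (emb hF k hk x) =
      emb ThreeModel.hF9 k hk ((suCongr 3 3 e).symm x) := by
    rw [MulEquiv.symm_apply_eq, suCongr_emb e ThreeModel.hF9 hF, MulEquiv.apply_symm_apply]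
  change Φ ((suCongr 5 3 e).symm (emb hF k hk x)) = _
  rw [h1, hΦ]
  change g k (suCongr 3 3 e ((suCongr 3 3 e).symm x)) = _
  rw [MulEquiv.apply_symm_apply]

end Cfsg.Agent.Phan
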