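import Cfsg.Agent.Phan.Geo
import Cfsg.Agent.S0281

/-!
# The model `SU 2 F q = Q SL_2(K) P`, `K` the fixed field of `x ↦ x ^ q`
-/

set_option autoImplicit false

namespace Cfsg.Agent.Phan

open Matrix Cfsg
open Cfsg.Agent.LieClassical.HermBasic

variable {F : Type*} [Field F] {q : ℕ} [Fintype F]

/-- The fixed field. -/
def fixedField (hF : Fintype.card F = q ^ 2) : Subfield F where
  carrier := {x | x ^ q = x}
  mul_mem' := fun {a b} (ha : a ^ q = a) (hb : b ^ q = b) => by
    change (a * b) ^ q = a * b
    rw [mul_pow, ha, hb]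
  one_mem' := one_pow q
  add_mem' := fun {a b} (ha : a ^ q = a) (hb : b ^ q = b) => by
    change (a + b) ^ q = a + b
    rw [add_pow_q hF, ha, hb]
  zero_mem' := zero_pow_q hF
  neg_mem' := fun {a} (ha : a ^ q = a) => by
    change (-a) ^ q = -a
    rw [neg_pow_q hF, ha]
  inv_mem' := fun a (ha : a ^ q = a) => by
    change (a⁻¹) ^ q = a⁻¹
    rw [inv_pow, ha]

theorem mem_fixedField (hF : Fintype.card F = q ^ 2) (x : F) : x ∈ fixedField hF ↔ x ^ q = x :=
  Iff.rfl

theorem card_fixedField (hF : Fintype.card F = q ^ 2) : Nat.card (fixedField hF) = q :=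
  card_fixed hF

/-- The model of `SU 2`. -/
theorem exists_model (hF : Fintype.card F = q ^ 2) :
    ∃ (P Q : Matrix (Fin 2) (Fin 2) F) (_ : P * Q = 1) (_ : Q * P = 1)
      (θ : SpecialLinearGroup (Fin 2) (fixedField hF) ≃* SU 2 F q),
      ∀ M, mat (θ M) = Q * (M : Matrix (Fin 2) (Fin 2) (fixedField hF)).map
        (fixedField hF).subtype * P := by
  classical
  set K₀ := fixedField hF with hK₀
  let f : K₀ →+* F := K₀.subtype
  have hf : ∀ x : F, x ^ q = x → ∃ y : K₀, f y = x := by
    intro x hx
    exact ⟨⟨x, hx⟩, rfl⟩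
  have hf' : ∀ y : K₀, f y ^ q = f y := fun y => y.2
  have hfinj : Function.Injective f := f.injective
  -- the conjugating matrix
  obtain ⟨s, hs⟩ := exists_not_fixed hF
  obtain ⟨t, ht0, ht⟩ := exists_norm_eq_ne hF (c := -1) (by rw [neg_pow_q hF, one_pow])
    (neg_ne_zero.2 one_ne_zero)
  have hD : s - s ^ q ≠ 0 := sub_ne_zero.2 (Ne.symm hs)
  let P : Matrix (Fin 2) (Fin 2) F := !![s, t * s ^ q; 1, t]
  let J : Matrix (Fin 2) (Fin 2) F := !![0, -1; 1, 0]
  have hPdet : P.det = t * (s - s ^ q) := by
    simp only [P, Matrix.det_fin_two_of]; ring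
  have hPunit : IsUnit P.det := by
    rw [hPdet]; exact (mul_ne_zero ht0 hD).isUnit
  have hJdet : J.det = 1 := by simp [J, Matrix.det_fin_two_of]
  have hJunit : IsUnit J.det := by rw [hJdet]; exact isUnit_one
  set Q := P⁻¹ with hQ
  have hPQ : P * Q = 1 := Matrix.mul_nonsing_inv P hPunit
  have hQP : Q * P = 1 := Matrix.nonsing_inv_mul P hPunit
  set c : F →+* F := (conj hF).toRingHom with hc
  have hcapp : ∀ x, c x = x ^ q := fun x => rfl
  have htq : t ^ q = -t⁻¹ := by
    field_simp
    linear_combination ht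
  have hPc : P.map c = t⁻¹ • (P * J) := by
    ext i j
    fin_cases i <;> fin_cases j
    · simp [P, J, hcapp]
      field_simp
    · simp [P, J, hcapp, mul_pow, pow_q_pow_q hF, htq]
    · simp [P, J, hcapp, ht0]
    · simp [P, J, hcapp, htq]
  -- the homomorphism
  let g : SpecialLinearGroup (Fin 2) K₀ →* SpecialLinearGroup (Fin 2) F :=
    (S0281.conjSL P Q hPQ hQP).comp (SpecialLinearGroup.map f)
  have hg : ∀ M, (g M).1 = Q * M.1.map f * P := fun M => rfl
  have hginj : Function.Injective g := by
    intro M N h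
    have h1 : Q * M.1.map f * P = Q * N.1.map f * P := by rw [← hg, ← hg, h]
    have h2 : P * (Q * M.1.map f * P) * Q = P * (Q * N.1.map f * P) * Q := by rw [h1]
    have h3 : ∀ X : Matrix (Fin 2) (Fin 2) F, P * (Q * X * P) * Q = X := by
      intro X
      calc P * (Q * X * P) * Q = (P * Q) * X * (P * Q) := by simp only [Matrix.mul_assoc]
        _ = X := by rw [hPQ, Matrix.one_mul, Matrix.mul_one]
    rw [h3, h3] at h2
    apply Subtype.ext
    ext i j
    exact congrArg Subtype.val (hfinj (by simpa using congrFun (congrFun h2 i) j))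
  -- membership in SU, by matrices
  have hSU : ∀ A : SpecialLinearGroup (Fin 2) F, A ∈ SU 2 F q ↔ J * A.1.map c = A.1 * J := by
    intro A
    rw [S0281.mem_SU_two_iff hF]
    constructor
    · rintro ⟨h1, h2⟩
      have h3 : (A.1 1 1) ^ q = A.1 0 0 := by rw [← h1, pow_q_pow_q hF]
      have h4 : (A.1 1 0) ^ q = -A.1 0 1 := by
        have : A.1 1 0 = -(A.1 0 1) ^ q := by rw [h2, neg_neg]
        rw [this, neg_pow_q hF, pow_q_pow_q hF]
      ext i j
      fin_cases i <;> fin_cases j <;>
        simp [J, hcapp, Matrix.mul_apply, Fin.sum_univ_two, h1, h2, h3, h4]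
    · intro h
      have h1 := congrFun (congrFun h 1) 0
      have h2 := congrFun (congrFun h 1) 1
      simp [J, hcapp, Matrix.mul_apply, Fin.sum_univ_two] at h1 h2
      exact ⟨h1, h2⟩
  have hPJ : IsUnit (P * J).det := by rw [Matrix.det_mul]; exact hPunit.mul hJunit
  -- key equivalence
  have hkey : ∀ A B : Matrix (Fin 2) (Fin 2) F, B * P = P * A →
      (B.map c = B ↔ J * A.map c = A * J) := by
    intro A B hBA
    have h1 : B.map c * P.map c = P.map c * A.map c := by
      rw [← Matrix.map_mul, ← Matrix.map_mul, hBA]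
    rw [hPc, Matrix.mul_smul, Matrix.smul_mul] at h1
    have h2 : B.map c * (P * J) = P * J * A.map c := by
      have := congrArg (fun X => t • X) h1
      simpa [smul_smul, mul_inv_cancel₀ ht0] using this
    constructor
    · intro hB
      rw [hB] at h2
      have h3 : P * (J * A.map c) = P * (A * J) := by
        rw [← Matrix.mul_assoc, ← h2, ← Matrix.mul_assoc, hBA, Matrix.mul_assoc]
      have h4 := congrArg (fun X => Q * X) h3
      simpa only [← Matrix.mul_assoc, hQP, Matrix.one_mul] using h4
    · intro hA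
      rw [Matrix.mul_assoc P, hA, ← Matrix.mul_assoc P, ← hBA, Matrix.mul_assoc B] at h2
      have h4 := congrArg (fun X => X * (P * J)⁻¹) h2
      simpa only [Matrix.mul_assoc, Matrix.mul_nonsing_inv _ hPJ, Matrix.mul_one] using h4
  have hrange : g.range = SU 2 F q := by
    ext A
    constructor
    · rintro ⟨M, rfl⟩
      rw [hSU]
      refine (hkey _ (M.1.map f) ?_).1 ?_
      · rw [hg]
        calc M.1.map f * P = (P * Q) * (M.1.map f * P) := by rw [hPQ, Matrix.one_mul]
          _ = _ := by simp only [Matrix.mul_assoc]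
      · ext i j
        simp [hcapp, hf']
    · intro hA
      rw [hSU] at hA
      set B := P * A.1 * Q with hB
      have hBP : B * P = P * A.1 := by
        rw [hB, Matrix.mul_assoc, hQP, Matrix.mul_one]
      have hBc := (hkey A.1 B hBP).2 hA
      have hBe : ∀ i j, ∃ y : K₀, f y = B i j := by
        intro i j
        refine hf _ ?_
        have := congrFun (congrFun hBc i) j
        simpa [hcapp] using this
      choose N hN using hBe
      have hNB : (Matrix.of N).map f = B := by
        ext i j; exact hN i j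
      have hdetN : (Matrix.of N).det = 1 := by
        apply hfinj
        rw [RingHom.map_det, map_one]
        change ((Matrix.of N).map f).det = 1
        rw [hNB, hB, Matrix.det_mul, Matrix.det_mul, A.2, mul_one, ← Matrix.det_mul, hPQ,
          Matrix.det_one]
      refine ⟨⟨Matrix.of N, hdetN⟩, ?_⟩
      apply Subtype.ext
      refine (hg ⟨Matrix.of N, hdetN⟩).trans ?_
      change Q * (Matrix.of N).map f * P = A.1
      rw [hNB, Matrix.mul_assoc, hBP, ← Matrix.mul_assoc, hQP, Matrix.one_mul]
  refine ⟨P, Q, hPQ, hQP, (MonoidHom.ofInjective hginj).trans (MulEquiv.subgroupCongr hrange), ?_⟩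
  intro M
  rfl

/-- Extension of an automorphism of the fixed field. -/
theorem exists_extend (hF : Fintype.card F = q ^ 2) (σ : fixedField hF ≃+* fixedField hF) :
    ∃ τ : F ≃+* F, ∀ x : fixedField hF, τ (x : F) = (σ x : F) := by
  classical
  obtain ⟨p, hp⟩ := CharP.exists F
  have hpp : Fact p.Prime := ⟨(CharP.char_is_prime_or_zero F p).resolve_right (by
    rintro rfl
    exact (CharP.char_ne_zero_of_finite F 0) rfl)⟩
  have hpK : CharP (fixedField hF) p := by
    exact (RingHom.charP_iff (fixedField hF).subtype (fixedField hF).subtype.injective p).2 hp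
  let _ : Algebra (ZMod p) F := ZMod.algebra F p
  let _ : Algebra (ZMod p) (fixedField hF) := ZMod.algebra (fixedField hF) p
  have : @IsScalarTower (ZMod p) (fixedField hF) F Algebra.toSMul Algebra.toSMul Algebra.toSMul :=
    IsScalarTower.of_algebraMap_eq' (Subsingleton.elim _ _)
  have hfin : Finite F := inferInstance
  let σ' : fixedField hF ≃ₐ[ZMod p] fixedField hF := AlgEquiv.ofRingEquiv (f := σ) (fun a => by
        have : (σ : fixedField hF →+* fixedField hF).comp
            (algebraMap (ZMod p) (fixedField hF)) = algebraMap (ZMod p) (fixedField hF) :=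
          Subsingleton.elim _ _
        exact RingHom.congr_fun this a)
  have : IsGalois (ZMod p) F := inferInstance
  refine ⟨(σ'.liftNormal F).toRingEquiv, ?_⟩
  intro x
  exact AlgEquiv.liftNormal_commutes σ' F x

end Cfsg.Agent.Phan
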