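import Mathlib

/-!
# Extending homomorphisms from a point stabiliser and a line group

`M` acts on `Ω` with an invariant symmetric graph `adj`; `ι : K →* M` is the stabiliser of the point `p`,
`κ : A →* M` a subgroup (of a line through `p`); `α : K →* H`, `φ : A →* H`.
`E` : the elements `k a l` of `M × H` with `a` moving `p` to a neighbour.
`Tri u v w` : the triangle `u, v, w` lifts.
`exists_hom` : if every neighbour of `p` is `k a p`, if the lifts of edges are unique (`uniq`), all triangles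
lift, and any four points have a common neighbour, then there is `Φ : M →* H` extending `α` and
`φ` on the elements of `A` moving `p` to a neighbour.
-/

set_option autoImplicit false

namespace Cfsg.Agent.Phan.Cover

/-- The data. -/
structure Ctx (M H Ω K A : Type*) [Group M] [Group H] [Group K] [Group A] [MulAction M Ω] where
  /-- base point -/
  p : Ω
  /-- adjacency -/
  adj : Ω → Ω → Prop
  /-- the stabiliser of `p` -/
  ι : K →* M
  /-- the homomorphism on the stabiliser -/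
  α : K →* H
  /-- the line group -/
  κ : A →* M
  /-- the homomorphism on the line group -/
  φ : A →* H

variable {M H Ω K A : Type*} [Group M] [Group H] [Group K] [Group A] [MulAction M Ω]

/-- The local hypotheses. -/
structure Ctx.Hyp (C : Ctx M H Ω K A) : Prop where
  inj : Function.Injective C.ι
  stab : ∀ m : M, m • C.p = C.p → ∃ k, C.ι k = m
  fix : ∀ k, C.ι k • C.p = C.p
  symm : ∀ {u v}, C.adj u v → C.adj v u
  inv : ∀ (m : M) {u v}, C.adj u v → C.adj (m • u) (m • v)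
  nbr : ∀ w, C.adj C.p w → ∃ k a, C.ι k • C.κ a • C.p = w
  uniq : ∀ k a b, C.adj C.p (C.κ a • C.p) → C.ι k • C.κ a • C.p = C.κ b • C.p →
    ∃ l, C.ι k * C.κ a = C.κ b * C.ι l ∧ C.α k * C.φ a = C.φ b * C.α l

namespace Ctx

variable (C : Ctx M H Ω K A)

/-- the graph of `α` -/
def kh (k : K) : M × H := (C.ι k, C.α k)

/-- the graph of `φ` -/
def ah (a : A) : M × H := (C.κ a, C.φ a)

theorem kh_mul (k l : K) : C.kh (k * l) = C.kh k * C.kh l := by
  simp [kh]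

theorem kh_one : C.kh 1 = 1 := by
  simp [kh]

theorem kh_inv (k : K) : C.kh k⁻¹ = (C.kh k)⁻¹ := by
  simp [kh]

theorem ah_inv (a : A) : C.ah a⁻¹ = (C.ah a)⁻¹ := by
  simp [ah]

/-- lifts of edges at the base point -/
def E (x : M × H) : Prop :=
  ∃ k a l, C.adj C.p (C.κ a • C.p) ∧ x = C.kh k * C.ah a * C.kh l

/-- triangles which lift -/
def Tri (u v w : Ω) : Prop :=
  ∃ x y z : M × H, x.1 • C.p = u ∧ y.1 • C.p = v ∧ z.1 • C.p = w ∧
    C.E (x⁻¹ * y) ∧ C.E (x⁻¹ * z) ∧ C.E (y⁻¹ * z)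

variable {C}

theorem Hyp.E_inv (h : C.Hyp) {x : M × H} (hx : C.E x) : C.E x⁻¹ := by
  obtain ⟨k, a, l, ha, rfl⟩ := hx
  refine ⟨l⁻¹, a⁻¹, k⁻¹, ?_, ?_⟩
  · have := h.inv (C.κ a)⁻¹ (h.symm ha)
    rwa [inv_smul_smul, ← map_inv] at this
  · rw [kh_inv, kh_inv, ah_inv]
    group

theorem E_inv' (h : C.Hyp) {x y : M × H} (hx : C.E (x⁻¹ * y)) : C.E (y⁻¹ * x) := by
  have := h.E_inv hx
  rwa [mul_inv_rev, inv_inv] at this

theorem E_left {x : M × H} (k : K) (hx : C.E x) : C.E (C.kh k * x) := by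
  obtain ⟨k', a, l, ha, rfl⟩ := hx
  exact ⟨k * k', a, l, ha, by rw [kh_mul]; group⟩

theorem E_right {x : M × H} (k : K) (hx : C.E x) : C.E (x * C.kh k) := by
  obtain ⟨k', a, l, ha, rfl⟩ := hx
  exact ⟨k', a, l * k, ha, by rw [kh_mul]; group⟩

theorem E_of {a : A} (ha : C.adj C.p (C.κ a • C.p)) : C.E (C.ah a) :=
  ⟨1, a, 1, ha, by simp [kh_one]⟩

theorem kh_fst (k : K) : (C.kh k).1 = C.ι k := rfl

theorem Hyp.fst_smul (h : C.Hyp) (x : M × H) (k : K) :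
    (x * C.kh k).1 • C.p = x.1 • C.p := by
  rw [Prod.fst_mul, mul_smul, kh_fst, h.fix]

theorem Hyp.E_adj (h : C.Hyp) {x : M × H} (hx : C.E x) : C.adj C.p (x.1 • C.p) := by
  obtain ⟨k, a, l, ha, rfl⟩ := hx
  rw [h.fst_smul, Prod.fst_mul, mul_smul, kh_fst]
  have := h.inv (C.ι k) ha
  rwa [h.fix] at this

theorem Hyp.exists_lift (h : C.Hyp) (x : M × H) {v : Ω} (hv : C.adj (x.1 • C.p) v) :
    ∃ y : M × H, y.1 • C.p = v ∧ C.E (x⁻¹ * y) := by
  have h1 := h.inv x.1⁻¹ hv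
  rw [inv_smul_smul] at h1
  obtain ⟨k, a, e⟩ := h.nbr _ h1
  refine ⟨x * (C.kh k * C.ah a), ?_, ?_⟩
  · rw [Prod.fst_mul, mul_smul, Prod.fst_mul, mul_smul]
    change x.1 • C.ι k • C.κ a • C.p = v
    rw [e, smul_inv_smul]
  · rw [inv_mul_cancel_left]
    refine E_left k (E_of ?_)
    rw [← e] at h1
    have := h.inv (C.ι k)⁻¹ h1
    rwa [inv_smul_smul, ← map_inv, h.fix] at this

theorem Hyp.E_uniq (h : C.Hyp) {x y : M × H} (hx : C.E x) (hy : C.E y)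
    (e : x.1 • C.p = y.1 • C.p) : ∃ k, x⁻¹ * y = C.kh k := by
  obtain ⟨k, a, l, ha, rfl⟩ := hx
  obtain ⟨k', b, l', hb, rfl⟩ := hy
  rw [h.fst_smul, h.fst_smul, Prod.fst_mul, Prod.fst_mul, mul_smul, mul_smul] at e
  change C.ι k • C.κ a • C.p = C.ι k' • C.κ b • C.p at e
  have e' : C.ι (k'⁻¹ * k) • C.κ a • C.p = C.κ b • C.p := by
    rw [map_mul, map_inv, mul_smul, e, inv_smul_smul]
  obtain ⟨m, h1, h2⟩ := h.uniq _ a b ha e'
  have h3 : C.kh (k'⁻¹ * k) * C.ah a = C.ah b * C.kh m := Prod.ext h1 h2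
  rw [kh_mul, kh_inv] at h3
  refine ⟨l⁻¹ * m⁻¹ * l', ?_⟩
  rw [kh_mul, kh_mul, kh_inv, kh_inv]
  have h4 : C.kh k * C.ah a = C.kh k' * (C.ah b * C.kh m) := by
    rw [← h3]; group
  calc (C.kh k * C.ah a * C.kh l)⁻¹ * (C.kh k' * C.ah b * C.kh l')
      = (C.kh l)⁻¹ * (C.kh k * C.ah a)⁻¹ * (C.kh k' * C.ah b) * C.kh l' := by group
    _ = _ := by rw [h4]; group

theorem Hyp.lift_uniq (h : C.Hyp) {x y z : M × H} (hx : C.E (x⁻¹ * y)) (hy : C.E (x⁻¹ * z))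
    (e : y.1 • C.p = z.1 • C.p) : ∃ k, z = y * C.kh k := by
  obtain ⟨k, hk⟩ := h.E_uniq hx hy (by
    rw [Prod.fst_mul, Prod.fst_mul, mul_smul, mul_smul, e])
  refine ⟨k, ?_⟩
  rw [← hk]
  group

theorem Hyp.fib (h : C.Hyp) {x y : M × H} (e : x.1 • C.p = y.1 • C.p) :
    ∃ (c : H) (k : K), y = (1, c) * x * C.kh k := by
  obtain ⟨k, hk⟩ := h.stab (x.1⁻¹ * y.1) (by rw [mul_smul, ← e, inv_smul_smul])
  refine ⟨y.2 * (C.α k)⁻¹ * x.2⁻¹, k, Prod.ext ?_ ?_⟩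
  · change y.1 = 1 * x.1 * C.ι k
    rw [hk]
    group
  · change y.2 = y.2 * (C.α k)⁻¹ * x.2⁻¹ * x.2 * C.α k
    group

/-- closing a triangle -/
theorem Hyp.close (h : C.Hyp) {x y z : M × H} (hT : C.Tri (x.1 • C.p) (y.1 • C.p) (z.1 • C.p))
    (hxy : C.E (x⁻¹ * y)) (hxz : C.E (x⁻¹ * z)) : C.E (y⁻¹ * z) := by
  obtain ⟨x', y', z', hx, hy, hz, h1, h2, h3⟩ := hT
  obtain ⟨c, k, hk⟩ := h.fib hx
  -- `x = (1,c) x' k`
  have e1 : C.E (x⁻¹ * ((1, c) * y')) := by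
    have : x⁻¹ * ((1, c) * y') = C.kh k⁻¹ * (x'⁻¹ * y') := by
      rw [hk, kh_inv]; group
    rw [this]
    exact E_left _ h1
  have e2 : C.E (x⁻¹ * ((1, c) * z')) := by
    have : x⁻¹ * ((1, c) * z') = C.kh k⁻¹ * (x'⁻¹ * z') := by
      rw [hk, kh_inv]; group
    rw [this]
    exact E_left _ h2
  obtain ⟨m, hm⟩ := h.lift_uniq e1 hxy (by rw [Prod.fst_mul, one_mul, hy])
  obtain ⟨m', hm'⟩ := h.lift_uniq e2 hxz (by rw [Prod.fst_mul, one_mul, hz])
  have : y⁻¹ * z = C.kh m⁻¹ * (y'⁻¹ * z') * C.kh m' := by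
    rw [hm, hm', kh_inv]; group
  rw [this]
  exact E_right _ (E_left _ h3)

theorem Hyp.tri_smul (h : C.Hyp) (m : M) {u v w : Ω} (hT : C.Tri u v w) :
    C.Tri (m • u) (m • v) (m • w) := by
  obtain ⟨x, y, z, hx, hy, hz, h1, h2, h3⟩ := hT
  refine ⟨(m, 1) * x, (m, 1) * y, (m, 1) * z, ?_, ?_, ?_, ?_, ?_, ?_⟩
  · rw [Prod.fst_mul, mul_smul, hx]
  · rw [Prod.fst_mul, mul_smul, hy]
  · rw [Prod.fst_mul, mul_smul, hz]
  · have : ((m, 1) * x)⁻¹ * ((m, 1) * y) = x⁻¹ * y := by group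
    rwa [this]
  · have : ((m, 1) * x)⁻¹ * ((m, 1) * z) = x⁻¹ * z := by group
    rwa [this]
  · have : ((m, 1) * y)⁻¹ * ((m, 1) * z) = y⁻¹ * z := by group
    rwa [this]

theorem Hyp.tri_swap (h : C.Hyp) {u v w : Ω} (hT : C.Tri u v w) : C.Tri v u w := by
  obtain ⟨x, y, z, hx, hy, hz, h1, h2, h3⟩ := hT
  exact ⟨y, x, z, hy, hx, hz, E_inv' h h1, h3, h2⟩

theorem Hyp.tri_swap' (h : C.Hyp) {u v w : Ω} (hT : C.Tri u v w) : C.Tri u w v := by
  obtain ⟨x, y, z, hx, hy, hz, h1, h2, h3⟩ := hT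
  exact ⟨x, z, y, hx, hz, hy, h2, h1, E_inv' h h3⟩

/-- the four faces of a tetrahedron: three of them imply the fourth -/
theorem Hyp.cone (h : C.Hyp) {x u v w : Ω}
    (h1 : C.Tri x u v) (h2 : C.Tri x u w) (h3 : C.Tri x v w) : C.Tri u v w := by
  obtain ⟨xx, yy, zz, hx, hy, hz, a1, a2, a3⟩ := h1
  have hxw : C.adj x w := by
    obtain ⟨x', y', z', hx', hy', hz', -, b2, -⟩ := h2
    have := h.inv x'.1 (h.E_adj b2)
    rw [Prod.fst_mul, mul_smul, hz', hx', Prod.fst_inv, smul_inv_smul] at this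
    · exact this
  obtain ⟨ww, hw, a4⟩ := h.exists_lift xx (v := w) (by rw [hx]; exact hxw)
  refine ⟨yy, zz, ww, hy, hz, hw, a3, ?_, ?_⟩
  · exact h.close (by rw [hx, hy, hw]; exact h2) a1 a4
  · exact h.close (by rw [hx, hz, hw]; exact h3) a2 a4

/-- triangles in the orbit of a third subgroup -/
theorem Hyp.tri_of_hom (h : C.Hyp) {B : Type*} [Group B] (β : B →* M) (γ : B →* H)
    (hB : ∀ b, C.adj C.p (β b • C.p) → C.E (β b, γ b)) (x y z : B)
    (hxy : C.adj (β x • C.p) (β y • C.p)) (hxz : C.adj (β x • C.p) (β z • C.p))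
    (hyz : C.adj (β y • C.p) (β z • C.p)) : C.Tri (β x • C.p) (β y • C.p) (β z • C.p) := by
  have key : ∀ a b : B, C.adj (β a • C.p) (β b • C.p) →
      C.E (((β a, γ a) : M × H)⁻¹ * (β b, γ b)) := by
    intro a b hab
    have h1 := h.inv (β a)⁻¹ hab
    rw [inv_smul_smul, ← map_inv, smul_smul, ← map_mul] at h1
    have h2 := hB _ h1
    have h3 : ((β a, γ a) : M × H)⁻¹ * (β b, γ b) = (β (a⁻¹ * b), γ (a⁻¹ * b)) := by
      simp
    rwa [h3]
  exact ⟨(β x, γ x), (β y, γ y), (β z, γ z), rfl, rfl, rfl, key _ _ hxy, key _ _ hxz, key _ _ hyz⟩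

/-- The base point stabiliser and the line elements generate. -/
theorem Hyp.closure_eq_top (h : C.Hyp)
    (hcommon : ∀ u v : Ω, ∃ x, C.adj u x ∧ C.adj v x) :
    Subgroup.closure ({m | ∃ k, C.ι k = m} ∪ {m | ∃ a, C.adj C.p (C.κ a • C.p) ∧ C.κ a = m}) =
      (⊤ : Subgroup M) := by
  set D := Subgroup.closure ({m | ∃ k, C.ι k = m} ∪ {m | ∃ a, C.adj C.p (C.κ a • C.p) ∧ C.κ a = m})
    with hD
  have hK : ∀ k, C.ι k ∈ D := fun k => Subgroup.subset_closure (Or.inl ⟨k, rfl⟩)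
  have hnb : ∀ w, C.adj C.p w → ∃ d ∈ D, d • C.p = w := by
    intro w hw
    obtain ⟨k, a, e⟩ := h.nbr w hw
    refine ⟨C.ι k * C.κ a, D.mul_mem (hK k) (Subgroup.subset_closure (Or.inr ⟨a, ?_, rfl⟩)), ?_⟩
    · rw [← e] at hw
      have := h.inv (C.ι k)⁻¹ hw
      rwa [inv_smul_smul, ← map_inv, h.fix] at this
    · rw [mul_smul, e]
  rw [eq_top_iff]
  intro m _
  obtain ⟨x, hx1, hx2⟩ := hcommon C.p (m • C.p)
  obtain ⟨d, hd, e1⟩ := hnb x hx1
  have h2 := h.inv d⁻¹ (h.symm hx2)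
  rw [← e1, inv_smul_smul] at h2
  obtain ⟨d', hd', e2⟩ := hnb _ h2
  have h3 : (d' ⁻¹ * d⁻¹ * m) • C.p = C.p := by
    rw [mul_smul, mul_smul, ← e2, inv_smul_smul]
  obtain ⟨k, hk⟩ := h.stab _ h3
  have : m = d * d' * C.ι k := by rw [hk]; group
  rw [this]
  exact D.mul_mem (D.mul_mem hd hd') (hK k)

/-- **Extension of homomorphisms.** -/
theorem Hyp.exists_hom (h : C.Hyp)
    (htri : ∀ u v w : Ω, C.adj u v → C.adj u w → C.adj v w → C.Tri u v w)
    (hcommon : ∀ u v w x : Ω, ∃ y, C.adj u y ∧ C.adj v y ∧ C.adj w y ∧ C.adj x y) :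
    ∃ Φ : M →* H, (∀ k, Φ (C.ι k) = C.α k) ∧
      ∀ a, C.adj C.p (C.κ a • C.p) → Φ (C.κ a) = C.φ a := by
  classical
  have hp : C.p = (1 : M × H).1 • C.p := by rw [Prod.fst_one, one_smul]
  -- direct lifts of neighbours of `p`
  have hdir : ∀ u, ∃ x : M × H, C.adj C.p u → x.1 • C.p = u ∧ C.E x := by
    intro u
    by_cases hu : C.adj C.p u
    · obtain ⟨y, h1, h2⟩ := h.exists_lift (1 : M × H) (v := u) (by rw [← hp]; exact hu)
      rw [inv_one, one_mul] at h2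
      exact ⟨y, fun _ => ⟨h1, h2⟩⟩
    · exact ⟨1, fun h' => absurd h' hu⟩
  choose d hd using hdir
  -- two adjacent neighbours of `p`
  have hdd : ∀ u v, C.adj C.p u → C.adj C.p v → C.adj u v → C.E ((d u)⁻¹ * d v) := by
    intro u v hu hv huv
    obtain ⟨a1, a2⟩ := hd u hu
    obtain ⟨b1, b2⟩ := hd v hv
    refine h.close (x := 1) ?_ (by rwa [inv_one, one_mul]) (by rwa [inv_one, one_mul])
    rw [← hp, a1, b1]
    exact htri _ _ _ hu hv huv
  -- the lift of `w` along a common neighbour of `p` and `w` is independent of the neighbour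
  have hs : ∀ w, ∃ x : M × H, x.1 • C.p = w ∧
      ∀ u, C.adj C.p u → C.adj u w → C.E ((d u)⁻¹ * x) := by
    intro w
    obtain ⟨u₀, h1, h2, -, -⟩ := hcommon C.p w C.p w
    obtain ⟨x, hx1, hx2⟩ := h.exists_lift (d u₀) (v := w) (by rw [(hd u₀ h1).1]; exact h.symm h2)
    refine ⟨x, hx1, ?_⟩
    intro u hu huw
    obtain ⟨v, v1, v2, v3, v4⟩ := hcommon C.p w u₀ u
    have hv : C.E ((d v)⁻¹ * x) := by
      refine h.close (x := d u₀) ?_ (hdd _ _ h1 v1 v3) hx2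
      rw [(hd u₀ h1).1, (hd v v1).1, hx1]
      exact htri _ _ _ v3 (h.symm h2) (h.symm v2)
    refine h.close (x := d v) ?_ (hdd _ _ v1 hu (h.symm v4)) hv
    rw [(hd v v1).1, (hd u hu).1, hx1]
    exact htri _ _ _ (h.symm v4) (h.symm v2) huw
  choose s hs1 hs2 using hs
  -- the section preserves adjacency
  have hadj : ∀ w w', C.adj w w' → C.E ((s w)⁻¹ * s w') := by
    intro w w' hww
    obtain ⟨u, h1, h2, h3, -⟩ := hcommon C.p w w' w'
    refine h.close (x := d u) ?_ (hs2 w u h1 (h.symm h2)) (hs2 w' u h1 (h.symm h3))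
    rw [(hd u h1).1, hs1, hs1]
    exact htri _ _ _ (h.symm h2) (h.symm h3) hww
  -- the section at `p`
  obtain ⟨k₀, hk₀⟩ : ∃ k, s C.p = C.kh k := by
    obtain ⟨u, h1, -, -, -⟩ := hcommon C.p C.p C.p C.p
    have h2 := hs2 C.p u h1 (h.symm h1)
    have h3 : C.E ((d u)⁻¹ * 1) := by rw [mul_one]; exact h.E_inv (hd u h1).2
    obtain ⟨k, hk⟩ := h.lift_uniq h3 h2 (by rw [← hp, hs1])
    exact ⟨k, by rw [hk, one_mul]⟩
  -- the group generated by the two graphs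
  set D : Subgroup (M × H) := Subgroup.closure ({x | ∃ k, C.kh k = x} ∪
    {x | ∃ a, C.adj C.p (C.κ a • C.p) ∧ C.ah a = x}) with hD
  have hDk : ∀ k, C.kh k ∈ D := fun k => Subgroup.subset_closure (Or.inl ⟨k, rfl⟩)
  have hDa : ∀ a, C.adj C.p (C.κ a • C.p) → C.ah a ∈ D := fun a ha =>
    Subgroup.subset_closure (Or.inr ⟨a, ha, rfl⟩)
  have hstep : ∀ x y : M × H, (∃ k, x = s (x.1 • C.p) * C.kh k) → C.E y →
      ∃ k, x * y = s ((x * y).1 • C.p) * C.kh k := by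
    rintro x y ⟨k, hk⟩ hy
    have h1 : C.E ((s (x.1 • C.p))⁻¹ * (x * y)) := by
      have : (s (x.1 • C.p))⁻¹ * (x * y) = C.kh k * y := by
        nth_rw 2 [hk]
        group
      rw [this]
      exact E_left _ hy
    have h2 : C.adj (x.1 • C.p) ((x * y).1 • C.p) := by
      rw [Prod.fst_mul, mul_smul]
      exact h.inv _ (h.E_adj hy)
    have h3 := hadj _ _ h2
    exact h.lift_uniq h3 h1 (by rw [hs1])
  have hall : ∀ x ∈ D, ∃ k, x = s (x.1 • C.p) * C.kh k := by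
    intro x hx
    induction hx using Subgroup.closure_induction_right with
    | one =>
      refine ⟨k₀⁻¹, ?_⟩
      rw [← hp, hk₀, kh_inv, mul_inv_cancel]
    | mul_right x _ y hy ih =>
      rcases hy with ⟨k, rfl⟩ | ⟨a, ha, rfl⟩
      · obtain ⟨l, hl⟩ := ih
        refine ⟨l * k, ?_⟩
        rw [h.fst_smul, kh_mul, ← mul_assoc, ← hl]
      · exact hstep x _ ih (E_of ha)
    | mul_inv_cancel x _ y hy ih =>
      rcases hy with ⟨k, rfl⟩ | ⟨a, ha, rfl⟩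
      · obtain ⟨l, hl⟩ := ih
        refine ⟨l * k⁻¹, ?_⟩
        rw [← kh_inv, h.fst_smul, kh_mul, ← mul_assoc, ← hl]
      · exact hstep x _ ih (h.E_inv (E_of ha))
  -- `D` is a graph
  have hgraph : ∀ x ∈ D, x.1 = 1 → x.2 = 1 := by
    intro x hx hx1
    obtain ⟨k, hk⟩ := hall x hx
    rw [hx1, one_smul, hk₀, ← kh_mul] at hk
    have h1 : C.ι (k₀ * k) = 1 := by rw [← hx1, hk]; rfl
    have h2 : k₀ * k = 1 := h.inj (by rw [h1, map_one])
    rw [hk, h2, kh_one]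
    rfl
  -- `D` projects onto `M`
  have htop := h.closure_eq_top (fun u v => by
    obtain ⟨x, h1, h2, -, -⟩ := hcommon u v u v
    exact ⟨x, h1, h2⟩)
  have hex : ∀ m : M, ∃ c : H, (m, c) ∈ D := by
    intro m
    have h1 : m ∈ D.map (MonoidHom.fst M H) := by
      have : (⊤ : Subgroup M) ≤ D.map (MonoidHom.fst M H) := by
        rw [← htop, Subgroup.closure_le]
        rintro x (⟨k, rfl⟩ | ⟨a, ha, rfl⟩)
        · exact ⟨C.kh k, hDk k, rfl⟩
        · exact ⟨C.ah a, hDa a ha, rfl⟩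
      exact this trivial
    obtain ⟨⟨m', c⟩, hd, rfl⟩ := h1
    exact ⟨c, hd⟩
  choose f hf using hex
  have huniq : ∀ m c, (m, c) ∈ D → c = f m := by
    intro m c hmc
    have := hgraph _ (D.mul_mem (D.inv_mem (hf m)) hmc) (by simp)
    simp only [Prod.snd_mul, Prod.snd_inv] at this
    rw [inv_mul_eq_one] at this
    exact this.symm
  refine ⟨MonoidHom.mk' f ?_, ?_, ?_⟩
  · intro a b
    exact (huniq (a * b) (f a * f b) (D.mul_mem (hf a) (hf b))).symm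
  · intro k
    exact (huniq _ _ (hDk k)).symm
  · intro a ha
    exact (huniq _ _ (hDa a ha)).symm

end Ctx

end Cfsg.Agent.Phan.Cover
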