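import Cfsg.Agent.Phan.Tri
import Cfsg.Agent.Phan.Cover

/-!
# Phan's theorem for `SU n F q`, `n ≥ 3`, `q ≥ 5`

`System hF n φ g` : homomorphisms `φ k` of `SU 2` (coordinates `k, k+1`) and `g k` of `SU 3` (coordinates
`k, k+1, k+2`) into a group `H`, compatible, with commuting images of `φ i`, `φ j` for `i + 2 ≤ j`.
`System.exists_hom` : there is `Φ : SU n F q →* H` with `Φ ∘ emb k = g k`.
-/

set_option autoImplicit false

namespace Cfsg.Agent.Phan

open Matrix Cfsg
open Cfsg.Agent.LieClassical.HermBasic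
open Cfsg.Agent.Phan.Cover

variable {F : Type*} [Field F] {q : ℕ} [Fintype F]

theorem adj_emb_iff (hF : Fintype.card F = q ^ 2) {n : ℕ} (a : SU 2 F q) :
    adj (e0 (n + 1) F q) (emb hF 0 (by omega : 0 + 2 ≤ n + 2) a • e0 (n + 1) F q) ↔
      mat a 1 0 ≠ 0 := by
  rw [adj_e0_iff hF, emb_zero_e0 hF]
  have : (fun j : Fin (n + 1) => (Fin.cons (mat a 0 0) (Pi.single 0 (mat a 1 0)) :
      Fin (n + 2) → F) j.succ) = Pi.single 0 (mat a 1 0) := by
    funext j; rw [Fin.cons_succ]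
  rw [this, herm_single_left, Pi.single_eq_same, not_iff_not, norm_eq_zero hF]

theorem exists_mul_of_zero (hF : Fintype.card F = q ^ 2) (a : SU 2 F q) (ha : mat a 1 0 = 0) :
    ∃ s : SU 2 F q, mat s 1 0 ≠ 0 ∧ mat (a * s) 1 0 ≠ 0 := by
  have hs : (0 : F) * 0 ^ q + 1 * 1 ^ q = 1 := by simp
  refine ⟨su2 hF 0 1 hs, ?_, ?_⟩
  · rw [mat_su2]
    simp
  · rw [mat_mul, mat_su2, Matrix.mul_apply, Fin.sum_univ_two]
    have hdet := mat_det a
    rw [Matrix.det_fin_two, ha, mul_zero, sub_zero] at hdet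
    have h1 : mat a 1 1 ≠ 0 := by
      intro h; rw [h, mul_zero] at hdet; exact zero_ne_one hdet
    simpa using h1

theorem emb_self (hF : Fintype.card F = q ^ 2) {n : ℕ} (h : 0 + n ≤ n) (x : SU n F q) :
    emb hF 0 h x = x := by
  apply mat_inj
  change extM (sh 0 h) (mat x) = mat x
  have hsh : (sh 0 h : Fin n → Fin n) = id := by
    funext i
    apply Fin.ext
    rw [sh_val]
    simp
  have h1 : inc F (sh 0 h : Fin n → Fin n) = 1 := by
    rw [hsh]
    ext i j
    rw [inc_apply, Matrix.one_apply]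
    rfl
  rw [extM, h1]
  simp

/-- The data for the stabiliser `SU (n+2)` and the line group `SU 2` in `SU (n+3)`. -/
def ctx (hF : Fintype.card F = q ^ 2) (n : ℕ) {H : Type*} [Group H] (α : SU (n + 2) F q →* H)
    (φ : SU 2 F q →* H) : Ctx (SU (n + 3) F q) H (Pt (n + 3) F q) (SU (n + 2) F q) (SU 2 F q) where
  p := e0 (n + 2) F q
  adj := adj
  ι := emb hF 1 (by omega)
  α := α
  κ := emb hF 0 (by omega)
  φ := φ

theorem ctx_hyp (hF : Fintype.card F = q ^ 2) (n : ℕ) {H : Type*} [Group H]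
    (α : SU (n + 2) F q →* H) (φ : SU 2 F q →* H)
    (huniq : ∀ (k : SU (n + 2) F q) (a b : SU 2 F q),
      adj (e0 (n + 2) F q) (emb hF 0 (by omega : 0 + 2 ≤ n + 3) a • e0 (n + 2) F q) →
      emb hF 1 (by omega : 1 + (n + 2) ≤ n + 3) k •
        emb hF 0 (by omega : 0 + 2 ≤ n + 3) a • e0 (n + 2) F q =
        emb hF 0 (by omega : 0 + 2 ≤ n + 3) b • e0 (n + 2) F q →
      ∃ l, emb hF 1 (by omega : 1 + (n + 2) ≤ n + 3) k * emb hF 0 (by omega : 0 + 2 ≤ n + 3) a =
        emb hF 0 (by omega : 0 + 2 ≤ n + 3) b * emb hF 1 (by omega : 1 + (n + 2) ≤ n + 3) l ∧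
        α k * φ a = φ b * α l) : (ctx hF n α φ).Hyp where
  inj := emb_injective hF _ _
  stab m hm := exists_emb_of_fix hF m hm
  fix k := emb_one_e0 hF k
  symm h := adj_symm h
  inv m _ _ h := adj_smul m h
  nbr w hw := exists_of_adj hF w hw
  uniq k a b ha e := huniq k a b ha e

/-- `SU (n+3)` is generated by the stabiliser and the line group. -/
theorem closure_eq_top (hF : Fintype.card F = q ^ 2) (hq : 3 ≤ q) (n : ℕ) :
    Subgroup.closure (Set.range (emb hF 1 (by omega) : SU (n + 2) F q →* SU (n + 3) F q) ∪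
      Set.range (emb hF 0 (by omega) : SU 2 F q →* SU (n + 3) F q)) = ⊤ := by
  have h := ctx_hyp (H := PUnit.{1}) hF n 1 1 (by
    intro k a b _ e
    have h1 : ((emb hF 0 (by omega : 0 + 2 ≤ n + 3) b)⁻¹ *
        (emb hF 1 (by omega : 1 + (n + 2) ≤ n + 3) k *
        emb hF 0 (by omega : 0 + 2 ≤ n + 3) a)) • e0 (n + 2) F q = e0 (n + 2) F q := by
      rw [mul_smul, mul_smul, e, inv_smul_smul]
    obtain ⟨l, hl⟩ := exists_emb_of_fix hF _ h1
    exact ⟨l, by rw [hl, mul_inv_cancel_left], Subsingleton.elim _ _⟩)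
  have h2 := h.closure_eq_top (fun u v => exists_common_two hF hq u v)
  rw [eq_top_iff, ← h2]
  refine Subgroup.closure_mono (Set.union_subset_union ?_ ?_)
  · rintro _ ⟨k, rfl⟩
    exact ⟨k, rfl⟩
  · rintro _ ⟨a, -, rfl⟩
    exact ⟨a, rfl⟩

/-- Two homomorphisms of `SU (n+3)` agreeing on the stabiliser and the line group are equal. -/
theorem hom_ext (hF : Fintype.card F = q ^ 2) (hq : 3 ≤ q) (n : ℕ) {H : Type*} [Group H]
    {f g : SU (n + 3) F q →* H}
    (h1 : ∀ x : SU (n + 2) F q, f (emb hF 1 (by omega) x) = g (emb hF 1 (by omega) x))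
    (h2 : ∀ x : SU 2 F q, f (emb hF 0 (by omega) x) = g (emb hF 0 (by omega) x)) : f = g := by
  refine MonoidHom.eq_of_eqOn_dense (closure_eq_top hF hq n) ?_
  rintro _ (⟨x, rfl⟩ | ⟨x, rfl⟩)
  · exact h1 x
  · exact h2 x

/-- `SU (n+2)` is generated by the `SU 2` of consecutive coordinates. -/
theorem closure_emb_eq_top (hF : Fintype.card F = q ^ 2) (hq : 3 ≤ q) (n : ℕ) :
    Subgroup.closure {y : SU (n + 2) F q | ∃ (j : ℕ) (h : j + 2 ≤ n + 2) (x : SU 2 F q),
      emb hF j h x = y} = ⊤ := by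
  induction n with
  | zero =>
    rw [eq_top_iff]
    intro x _
    exact Subgroup.subset_closure ⟨0, by omega, x, emb_self hF _ x⟩
  | succ n ih =>
    rw [eq_top_iff, ← closure_eq_top hF hq n, Subgroup.closure_le]
    rintro _ (⟨x, rfl⟩ | ⟨x, rfl⟩)
    · have hx : x ∈ Subgroup.closure {y : SU (n + 2) F q | ∃ (j : ℕ) (h : j + 2 ≤ n + 2)
          (x : SU 2 F q), emb hF j h x = y} := by rw [ih]; trivial
      have h1 := Subgroup.mem_map_of_mem (emb hF 1 (by omega) : SU (n + 2) F q →* SU (n + 3) F q) hx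
      rw [MonoidHom.map_closure] at h1
      refine Subgroup.closure_mono ?_ h1
      rintro _ ⟨_, ⟨j, hj, x, rfl⟩, rfl⟩
      exact ⟨1 + j, by omega, x, (emb_emb hF _ _ _).symm⟩
    · exact Subgroup.subset_closure ⟨0, by omega, x, rfl⟩

/-- adjacency in the span of three basis vectors -/
theorem adj_emb_three (hF : Fintype.card F = q ^ 2) {n : ℕ} (b : SU 3 F q)
    (h : adj (e0 (n + 2) F q) (emb hF 0 (by omega : 0 + 3 ≤ n + 3) b • e0 (n + 2) F q)) :
    adj (e0 2 F q) (b • e0 2 F q) := by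
  have he : (e0 (n + 2) F q).val =
      inc F (sh 0 (by omega : 0 + 3 ≤ n + 3) : Fin 3 → Fin (n + 3)) *ᵥ (e0 2 F q).val := by
    funext x
    have key : ∀ (i : Fin 3), (inc F (sh 0 (by omega : 0 + 3 ≤ n + 3) : Fin 3 → Fin (n + 3)) *ᵥ
        (e0 2 F q).val) (sh 0 (by omega : 0 + 3 ≤ n + 3) i) = (e0 2 F q).val i :=
      fun i => inc_mulVec (sh_injective 0 _) _ i
    by_cases hx : (x : ℕ) < 3
    · have hx' : x = sh 0 (by omega : 0 + 3 ≤ n + 3) ⟨x, hx⟩ := by
        apply Fin.ext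
        rw [sh_val]
        simp
      rw [hx', key, e0_val, e0_val]
      by_cases h0 : (x : ℕ) = 0
      · have h1 : (⟨x, hx⟩ : Fin 3) = 0 := Fin.ext h0
        rw [h1, Pi.single_eq_same]
        exact Pi.single_eq_same (M := fun _ => F) (0 : Fin (n + 3)) 1
      · rw [Pi.single_eq_of_ne, Pi.single_eq_of_ne]
        · intro h1; exact h0 (congrArg Fin.val h1)
        · intro h1
          have := congrArg Fin.val h1
          rw [sh_val] at this
          simp at this
          exact h0 (by rw [this]; rfl)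
    · rw [inc_mulVec_of_notMem, e0_val, Pi.single_eq_of_ne]
      · intro h0; rw [h0] at hx; simp at hx
      · intro i hi
        have := congrArg Fin.val hi
        rw [sh_val] at this
        omega
  have hv : (emb hF 0 (by omega : 0 + 3 ≤ n + 3) b • e0 (n + 2) F q).val =
      inc F (sh 0 (by omega : 0 + 3 ≤ n + 3) : Fin 3 → Fin (n + 3)) *ᵥ (b • e0 2 F q).val := by
    rw [smul_val, he]
    change extM (sh 0 (by omega : 0 + 3 ≤ n + 3)) (mat b) *ᵥ _ = _
    rw [extM_inc (sh_injective 0 _)]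
    rfl
  rw [adj, hv, he, herm_inc (sh_injective 0 _), herm_inc (sh_injective 0 _)] at h
  exact h

/-- **The inductive step.** -/
theorem exists_extension (hF : Fintype.card F = q ^ 2) (hq : 5 ≤ q) (n : ℕ) {H : Type*} [Group H]
    (α : SU (n + 3) F q →* H) (γ : SU 3 F q →* H)
    (hα : ∀ x : SU 2 F q, γ (emb hF 1 (by omega) x) = α (emb hF 0 (by omega) x))
    (hc : ∀ (c : SU (n + 2) F q) (a : SU 2 F q),
      α (emb hF 1 (by omega) c) * γ (emb hF 0 (by omega) a) =
        γ (emb hF 0 (by omega) a) * α (emb hF 1 (by omega) c)) :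
    ∃ Φ : SU (n + 4) F q →* H, (∀ x : SU (n + 3) F q, Φ (emb hF 1 (by omega) x) = α x) ∧
      ∀ x : SU 3 F q, Φ (emb hF 0 (by omega) x) = γ x := by
  set φ : SU 2 F q →* H := γ.comp (emb hF 0 (by omega)) with hφ
  have hφa : ∀ a, φ a = γ (emb hF 0 (by omega) a) := fun a => rfl
  -- relations between the embeddings
  have r1 : ∀ t : SU 2 F q, emb hF 1 (by omega : 1 + (n + 3) ≤ n + 4)
      (emb hF 0 (by omega : 0 + 2 ≤ n + 3) t) =
      emb hF 0 (by omega : 0 + 3 ≤ n + 4) (emb hF 1 (by omega : 1 + 2 ≤ 3) t) := by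
    intro t
    rw [emb_emb, emb_emb]
  have r2 : ∀ a : SU 2 F q, emb hF 0 (by omega : 0 + 2 ≤ n + 4) a =
      emb hF 0 (by omega : 0 + 3 ≤ n + 4) (emb hF 0 (by omega : 0 + 2 ≤ 3) a) := by
    intro a
    rw [emb_emb]
  have r3 : ∀ (c : SU (n + 2) F q) (a : SU 2 F q),
      emb hF 1 (by omega : 1 + (n + 3) ≤ n + 4) (emb hF 1 (by omega : 1 + (n + 2) ≤ n + 3) c) *
        emb hF 0 (by omega : 0 + 2 ≤ n + 4) a =
      emb hF 0 (by omega : 0 + 2 ≤ n + 4) a *
        emb hF 1 (by omega : 1 + (n + 3) ≤ n + 4)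
          (emb hF 1 (by omega : 1 + (n + 2) ≤ n + 3) c) := by
    intro c a
    rw [emb_emb, emb_comm]
    right
    omega
  have hyp : (ctx hF (n + 1) α φ).Hyp := by
    refine ctx_hyp hF (n + 1) α φ ?_
    intro k a b ha e
    obtain ⟨t, c, hk, e3⟩ := decomp_of_map hF k a b ha e
    have hfix : ((emb hF 0 (by omega : 0 + 2 ≤ 3) b)⁻¹ * (emb hF 1 (by omega : 1 + 2 ≤ 3) t *
        emb hF 0 (by omega : 0 + 2 ≤ 3) a)) • e0 2 F q = e0 2 F q := by
      rw [mul_smul, mul_smul, e3, inv_smul_smul]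
    obtain ⟨d, hd⟩ := exists_emb_of_fix hF _ hfix
    have hd' : emb hF 1 (by omega : 1 + 2 ≤ 3) t * emb hF 0 (by omega : 0 + 2 ≤ 3) a =
        emb hF 0 (by omega : 0 + 2 ≤ 3) b * emb hF 1 (by omega : 1 + 2 ≤ 3) d := by
      rw [hd, mul_inv_cancel_left]
    refine ⟨emb hF 0 (by omega) d * emb hF 1 (by omega) c, ?_, ?_⟩
    · rw [hk, map_mul, map_mul, mul_assoc, r3, ← mul_assoc, ← mul_assoc, r1, r1, r2 a, r2 b,
        ← map_mul, ← map_mul, hd']
    · rw [hk, map_mul, map_mul, hφa, hφa, mul_assoc, hc, ← mul_assoc, ← mul_assoc, ← hα, ← hα,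
        ← map_mul, ← map_mul, hd']
  -- the third subgroup
  have hB : ∀ b : SU 3 F q, adj (e0 (n + 3) F q)
      (emb hF 0 (by omega : 0 + 3 ≤ n + 4) b • e0 (n + 3) F q) →
      (ctx hF (n + 1) α φ).E (emb hF 0 (by omega : 0 + 3 ≤ n + 4) b, γ b) := by
    intro b hb
    have hb3 := adj_emb_three hF b hb
    obtain ⟨k, a, hka⟩ := exists_of_adj hF (n := 0) _ hb3
    have hfix : ((emb hF 1 (by omega : 1 + 2 ≤ 3) k * emb hF 0 (by omega : 0 + 2 ≤ 3) a)⁻¹ * b) •
        e0 2 F q = e0 2 F q := by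
      rw [mul_smul, inv_smul_eq_iff, mul_smul]
      exact hka.symm
    obtain ⟨l, hl⟩ := exists_emb_of_fix hF _ hfix
    have hbe : b = emb hF 1 (by omega : 1 + 2 ≤ 3) k * emb hF 0 (by omega : 0 + 2 ≤ 3) a *
        emb hF 1 (by omega : 1 + 2 ≤ 3) l := by
      rw [hl, mul_inv_cancel_left]
    have ha : mat a 1 0 ≠ 0 := by
      rw [← adj_emb_iff hF (n := 1)]
      have h1 := adj_smul (emb hF 1 (by omega : 1 + 2 ≤ 3) k)⁻¹ hb3
      rw [← hka, inv_smul_smul, inv_smul_eq_iff.2 (emb_one_e0 hF k).symm] at h1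
      exact h1
    refine ⟨emb hF 0 (by omega) k, a, emb hF 0 (by omega) l, ?_, ?_⟩
    · exact (adj_emb_iff hF (n := n + 2) a).2 ha
    · refine Prod.ext ?_ ?_
      · change emb hF 0 (by omega : 0 + 3 ≤ n + 4) b =
          emb hF 1 (by omega : 1 + (n + 3) ≤ n + 4) (emb hF 0 (by omega : 0 + 2 ≤ n + 3) k) *
            emb hF 0 (by omega : 0 + 2 ≤ n + 4) a *
            emb hF 1 (by omega : 1 + (n + 3) ≤ n + 4) (emb hF 0 (by omega : 0 + 2 ≤ n + 3) l)
        rw [r1, r1, r2, ← map_mul, ← map_mul, ← hbe]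
      · change γ b = α (emb hF 0 (by omega) k) * φ a * α (emb hF 0 (by omega) l)
        rw [← hα, ← hα, hφa, ← map_mul, ← map_mul, ← hbe]
  -- good triangles
  have hgood : ∀ v x u : Pt (n + 4) F q, hermForm (n + 4) F q v.val x.val = 0 → adj v u →
      adj x u → hermForm (n + 4) F q u.val v.val * hermForm (n + 4) F q v.val u.val +
        hermForm (n + 4) F q u.val x.val * hermForm (n + 4) F q x.val u.val ≠ 1 →
      (ctx hF (n + 1) α φ).Tri v x u := by
    intro v x u hvx hvu hxu hrem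
    obtain ⟨g, x₁, x₂, x₃, h1, h2, h3⟩ := exists_frame hF v x u hvx hrem
    have hadj : adj v x := by
      rw [adj, hvx, zero_mul]
      exact zero_ne_one
    rw [← h1, ← h2, ← h3]
    apply hyp.tri_smul
    refine hyp.tri_of_hom (emb hF 0 (by omega : 0 + 3 ≤ n + 4)) γ hB x₁ x₂ x₃ ?_ ?_ ?_
    · have := adj_smul g⁻¹ hadj
      rw [← h1, ← h2, inv_smul_smul, inv_smul_smul] at this
      exact this
    · have := adj_smul g⁻¹ hvu
      rw [← h1, ← h3, inv_smul_smul, inv_smul_smul] at this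
      exact this
    · have := adj_smul g⁻¹ hxu
      rw [← h2, ← h3, inv_smul_smul, inv_smul_smul] at this
      exact this
  have htri : ∀ u v w : Pt (n + 4) F q, adj u v → adj u w → adj v w →
      (ctx hF (n + 1) α φ).Tri u v w := by
    intro v w u hvw hvu hwu
    obtain ⟨x, h1, h2, h3, h4, h5⟩ := exists_apex hF hq v w u hvw hvu hwu
    have t1 := hgood v x u h1 hvu (adj_symm h3) h4
    have t2 := hgood w x u h2 hwu (adj_symm h3) h5
    have hxw : adj x w := by
      rw [adj, h2, mul_zero]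
      exact zero_ne_one
    have t3 := hgood v x w h1 hvw hxw (by
      rw [h2, zero_mul, add_zero]
      exact adj_symm hvw)
    exact hyp.cone (hyp.tri_swap t3) (hyp.tri_swap t1) (hyp.tri_swap t2)
  obtain ⟨Φ, hΦ1, hΦ2⟩ := hyp.exists_hom htri (fun u v w x => exists_common_four hF hq u v w x)
  have hΦ1' : ∀ x : SU (n + 3) F q, Φ (emb hF 1 (by omega) x) = α x := hΦ1
  have hΦ2' : ∀ a : SU 2 F q, Φ (emb hF 0 (by omega) a) = φ a := by
    intro a
    have key : ∀ b : SU 2 F q, mat b 1 0 ≠ 0 → Φ (emb hF 0 (by omega) b) = φ b := by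
      intro b hb
      exact hΦ2 b ((adj_emb_iff hF (n := n + 2) b).2 hb)
    by_cases ha : mat a 1 0 = 0
    · obtain ⟨s, hs1, hs2⟩ := exists_mul_of_zero hF a ha
      have h1 := key _ hs2
      rw [map_mul, map_mul, map_mul, key s hs1] at h1
      exact mul_right_cancel h1
    · exact key a ha
  refine ⟨Φ, hΦ1', ?_⟩
  have hext : Φ.comp (emb hF 0 (by omega : 0 + 3 ≤ n + 4)) = γ := by
    refine hom_ext hF (by omega) 0 ?_ ?_
    · intro x
      change Φ (emb hF 0 (by omega : 0 + 3 ≤ n + 4) (emb hF 1 (by omega : 1 + 2 ≤ 3) x)) = _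
      rw [← r1, hΦ1', ← hα]
    · intro x
      change Φ (emb hF 0 (by omega : 0 + 3 ≤ n + 4) (emb hF 0 (by omega : 0 + 2 ≤ 3) x)) = _
      rw [← r2, hΦ2', hφa]
  intro x
  rw [← hext]
  rfl

/-- A Phan system of rank `n`. -/
structure System (hF : Fintype.card F = q ^ 2) (n : ℕ) {H : Type*} [Group H]
    (φ : ℕ → (SU 2 F q →* H)) (g : ℕ → (SU 3 F q →* H)) : Prop where
  left : ∀ k, k + 3 ≤ n → ∀ a, g k (emb hF 0 (by omega) a) = φ k a
  right : ∀ k, k + 3 ≤ n → ∀ a, g k (emb hF 1 (by omega) a) = φ (k + 1) a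
  comm : ∀ i j, i + 2 ≤ j → j + 2 ≤ n → ∀ a b, φ i a * φ j b = φ j b * φ i a

/-- **Phan's theorem.** -/
theorem System.exists_hom (hF : Fintype.card F = q ^ 2) (hq : 5 ≤ q) (n : ℕ) {H : Type*}
    [Group H] {φ : ℕ → (SU 2 F q →* H)} {g : ℕ → (SU 3 F q →* H)} (h : System hF (n + 3) φ g) :
    ∃ Φ : SU (n + 3) F q →* H, ∀ (k : ℕ) (hk : k + 3 ≤ n + 3) (x : SU 3 F q),
      Φ (emb hF k hk x) = g k x := by
  induction n generalizing φ g with
  | zero =>
    refine ⟨g 0, ?_⟩
    intro k hk x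
    obtain rfl : k = 0 := by omega
    rw [emb_self]
  | succ n ih =>
    have h' : System hF (n + 3) (fun k => φ (k + 1)) (fun k => g (k + 1)) :=
      ⟨fun k hk a => h.left (k + 1) (by omega) a, fun k hk a => h.right (k + 1) (by omega) a,
        fun i j hij hj a b => h.comm (i + 1) (j + 1) (by omega) (by omega) a b⟩
    obtain ⟨α, hα⟩ := ih h'
    have hαφ : ∀ (j : ℕ) (hj : j + 2 ≤ n + 3) (x : SU 2 F q), α (emb hF j hj x) = φ (j + 1) x := by
      intro j hj x
      by_cases hj' : j + 3 ≤ n + 3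
      · have e : emb hF j hj x = emb hF j hj' (emb hF 0 (by omega : 0 + 2 ≤ 3) x) := by
          rw [emb_emb]
          exact emb_congr hF _ _ (by omega) x
        rw [e, hα, h.left (j + 1) (by omega)]
      · obtain ⟨i, rfl⟩ : ∃ i, j = i + 1 := ⟨j - 1, by omega⟩
        have e : emb hF (i + 1) hj x =
            emb hF i (by omega : i + 3 ≤ n + 3) (emb hF 1 (by omega : 1 + 2 ≤ 3) x) := by
          rw [emb_emb]
        rw [e, hα, h.right (i + 1) (by omega)]
    obtain ⟨Φ, hΦ1, hΦ2⟩ := exists_extension hF hq n α (g 0) (by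
      intro x
      rw [h.right 0 (by omega), hαφ 0 (by omega)]) (by
      intro c a
      have hc : c ∈ Subgroup.closure {y : SU (n + 2) F q | ∃ (j : ℕ) (h : j + 2 ≤ n + 2)
          (x : SU 2 F q), emb hF j h x = y} := by
        rw [closure_emb_eq_top hF (by omega) n]; trivial
      rw [h.left 0 (by omega)]
      have key : ∀ c ∈ Subgroup.closure {y : SU (n + 2) F q | ∃ (j : ℕ) (h : j + 2 ≤ n + 2)
          (x : SU 2 F q), emb hF j h x = y}, Commute (α (emb hF 1 (by omega) c)) (φ 0 a) := by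
        intro c hc
        induction hc using Subgroup.closure_induction with
        | mem y hy =>
          obtain ⟨j, hj, x, rfl⟩ := hy
          rw [emb_emb, hαφ (1 + j) (by omega)]
          exact (h.comm 0 (1 + j + 1) (by omega) (by omega) a x).symm
        | one => rw [map_one, map_one]; exact Commute.one_left _
        | mul x y _ _ hx hy => rw [map_mul, map_mul]; exact hx.mul_left hy
        | inv x _ hx => rw [map_inv, map_inv]; exact hx.inv_left
      exact key c hc)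
    refine ⟨Φ, ?_⟩
    intro k hk x
    by_cases hk0 : k = 0
    · subst hk0
      exact hΦ2 x
    · obtain ⟨i, rfl⟩ : ∃ i, k = i + 1 := ⟨k - 1, by omega⟩
      have e : emb hF (i + 1) hk x = emb hF 1 (by omega : 1 + (n + 3) ≤ n + 1 + 3)
          (emb hF i (by omega : i + 3 ≤ n + 3) x) := by
        rw [emb_emb]
        exact emb_congr hF _ _ (by omega) x
      rw [e, hΦ1, hα]

end Cfsg.Agent.Phan
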