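import Cfsg.Agent.Phan.Frame
import Cfsg.Agent.Phan.Main

/-!
# Uniqueness of the Phan amalgam

From homomorphisms `ψ k : SU 3 F q →* H` (`k + 3 ≤ n`) with kernels in the centre, such that
`ψ k (SU 2 on the last two coordinates) = ψ (k+1) (SU 2 on the first two coordinates)` and the diagonal
subgroups of these correspond, to a `System`: `g k = ψ k ∘ fr`.
-/

set_option autoImplicit false

namespace Cfsg.Agent.Phan

open Matrix Cfsg
open Cfsg.Agent.LieClassical.HermBasic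

variable {F : Type*} [Field F] {q : ℕ}

/-- diagonal elements of `SU 2` -/
def IsDiag (x : SU 2 F q) : Prop := mat x 0 1 = 0 ∧ mat x 1 0 = 0

variable [Fintype F]

/-- Two injective homomorphisms of `SU 2` with the same image and compatible diagonal subgroups differ by a
frame automorphism. -/
theorem exists_link (hF : Fintype.card F = q ^ 2) {H : Type*} [Group H] (ρ₁ ρ₂ : SU 2 F q →* H)
    (h1 : Function.Injective ρ₁) (h2 : Function.Injective ρ₂) (hr : ρ₁.range = ρ₂.range)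
    (hT : ∀ y : SU 2 F q, IsDiag y → ∃ z : SU 2 F q, IsDiag z ∧ ρ₁ y = ρ₂ z) :
    ∃ (τ : F ≃+* F) (d : F) (hd : ∀ i : Fin 2, (![1, d] : Fin 2 → F) i *
      (![1, d] : Fin 2 → F) i ^ q = 1), ∀ x, ρ₂ (fr hF τ ![1, d] hd x) = ρ₁ x := by
  classical
  set δ : SU 2 F q ≃* SU 2 F q := (MonoidHom.ofInjective h1).trans
    ((MulEquiv.subgroupCongr hr).trans (MonoidHom.ofInjective h2).symm) with hδ
  have hδρ : ∀ x, ρ₂ (δ x) = ρ₁ x := by
    intro x
    have h3 : ∀ y : ρ₂.range, ρ₂ ((MonoidHom.ofInjective h2).symm y) = y := by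
      intro y
      have := (MonoidHom.ofInjective h2).apply_symm_apply y
      exact congrArg Subtype.val this
    change ρ₂ ((MonoidHom.ofInjective h2).symm
      ((MulEquiv.subgroupCongr hr) (MonoidHom.ofInjective h1 x))) = ρ₁ x
    rw [h3]
    rfl
  -- a torus element
  have hex : ∃ c : F, c * c ^ q = 1 ∧ c * c ≠ 1 := by
    by_contra hcon
    push Not at hcon
    have h3 : (Finset.univ.filter fun y : F => y * y ^ q = 1) ⊆ {1, -1} := by
      intro y hy
      simp only [Finset.mem_filter, Finset.mem_univ, true_and] at hy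
      rw [Finset.mem_insert, Finset.mem_singleton]
      exact mul_self_eq_one_iff.1 (hcon y hy)
    have h4 := Finset.card_le_card h3
    have h5 : (Finset.univ.filter fun y : F => y * y ^ q = 1).card = q + 1 := by
      rw [← card_norm_eq_one hF, Nat.card_eq_fintype_card, Fintype.card_subtype]
    rw [h5] at h4
    have h6 := Finset.card_le_two (a := (1 : F)) (b := -1)
    have := two_le hF
    omega
  obtain ⟨c, hc, hc2⟩ := hex
  obtain ⟨z, hz, hz'⟩ := hT (tor hF c hc) (by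
    rw [IsDiag, mat_tor]
    exact ⟨rfl, rfl⟩)
  have hδz : δ (tor hF c hc) = z := h2 (by rw [hδρ, hz'])
  obtain ⟨τ, d, hd, hform⟩ := aut_su2_of_torus hF δ c hc hc2 (by rw [hδz]; exact hz.1)
    (by rw [hδz]; exact hz.2)
  refine ⟨τ, d, ?_, ?_⟩
  · intro i
    fin_cases i
    · simp
    · exact hd
  · intro x
    rw [← hδρ]
    congr 1
    apply mat_inj
    rw [mat_fr, hform]
    ext i j
    rw [frM_apply]
    have hd0 : d ≠ 0 := ne_zero_of_norm hd
    fin_cases i <;> fin_cases j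
    · simp
    · simp [mul_comm]
    · simp
    · simp
      field_simp

theorem isDiag_fr (hF : Fintype.card F = q ^ 2) (τ : F ≃+* F) (d : Fin 2 → F)
    (hd : ∀ i, d i * d i ^ q = 1) {x : SU 2 F q} (hx : IsDiag x) : IsDiag (fr hF τ d hd x) := by
  constructor
  · rw [mat_fr, frM_apply, hx.1, map_zero, mul_zero, zero_mul]
  · rw [mat_fr, frM_apply, hx.2, map_zero, mul_zero, zero_mul]

/-- **Uniqueness of the amalgam.** -/
theorem exists_system (hF : Fintype.card F = q ^ 2) {n : ℕ} {H : Type*} [Group H]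
    (ψ : ℕ → (SU 3 F q →* H))
    (hinj0 : ∀ k, k + 3 ≤ n → Function.Injective ((ψ k).comp (emb hF 0 (by omega : 0 + 2 ≤ 3))))
    (hinj1 : ∀ k, k + 3 ≤ n → Function.Injective ((ψ k).comp (emb hF 1 (by omega : 1 + 2 ≤ 3))))
    (hrange : ∀ k, k + 4 ≤ n → ((ψ k).comp (emb hF 1 (by omega : 1 + 2 ≤ 3))).range =
      ((ψ (k + 1)).comp (emb hF 0 (by omega : 0 + 2 ≤ 3))).range)
    (htor : ∀ k, k + 4 ≤ n → ∀ y : SU 2 F q, IsDiag y → ∃ z : SU 2 F q, IsDiag z ∧
      ψ k (emb hF 1 (by omega : 1 + 2 ≤ 3) y) = ψ (k + 1) (emb hF 0 (by omega : 0 + 2 ≤ 3) z))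
    (hcomm : ∀ i j a b, i + 3 ≤ n → j + 3 ≤ n → ∀ (ha : a + 2 ≤ 3) (hb : b + 2 ≤ 3),
      i + a + 2 ≤ j + b → ∀ x y : SU 2 F q,
      Commute (ψ i (emb hF a ha x)) (ψ j (emb hF b hb y))) :
    ∃ (φ : ℕ → (SU 2 F q →* H)) (g : ℕ → (SU 3 F q →* H)), System hF n φ g ∧
      ∀ k, ∃ (τ : F ≃+* F) (d : Fin 3 → F) (hd : ∀ i, d i * d i ^ q = 1),
        g k = (ψ k).comp (fr hF τ d hd) := by
  classical
  -- the frame automorphisms, one after the other
  have step : ∀ (k : ℕ) (s : {p : (F ≃+* F) × (Fin 3 → F) // ∀ i, p.2 i * p.2 i ^ q = 1}),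
      ∃ s' : {p : (F ≃+* F) × (Fin 3 → F) // ∀ i, p.2 i * p.2 i ^ q = 1}, k + 4 ≤ n →
        ∀ x : SU 2 F q, ψ (k + 1) (fr hF s'.1.1 s'.1.2 s'.2 (emb hF 0 (by omega : 0 + 2 ≤ 3) x)) =
          ψ k (fr hF s.1.1 s.1.2 s.2 (emb hF 1 (by omega : 1 + 2 ≤ 3) x)) := by
    intro k s
    by_cases hk : k + 4 ≤ n
    swap
    · exact ⟨s, fun h => absurd h hk⟩
    set ρ₁ : SU 2 F q →* H := ((ψ k).comp (fr hF s.1.1 s.1.2 s.2)).comp
      (emb hF 1 (by omega : 1 + 2 ≤ 3)) with hρ₁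
    set ρ₂ : SU 2 F q →* H := (ψ (k + 1)).comp (emb hF 0 (by omega : 0 + 2 ≤ 3)) with hρ₂
    have hρ₁' : ∀ x, ρ₁ x = ψ k (emb hF 1 (by omega : 1 + 2 ≤ 3)
        (fr hF s.1.1 (s.1.2 ∘ sh 1 (by omega)) (fun i => s.2 _) x)) := by
      intro x
      rw [← fr_emb]
      rfl
    obtain ⟨τ, d, hd, h⟩ := exists_link hF ρ₁ ρ₂ (by
      intro x y hxy
      rw [hρ₁', hρ₁'] at hxy
      exact fr_injective hF _ _ _ (hinj1 k (by omega) hxy)) (hinj0 (k + 1) (by omega)) (by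
      rw [← hrange k hk]
      ext y
      constructor
      · rintro ⟨x, rfl⟩
        exact ⟨_, (hρ₁' x).symm⟩
      · rintro ⟨x, rfl⟩
        obtain ⟨x', rfl⟩ := fr_surjective hF s.1.1 (s.1.2 ∘ sh 1 (by omega : 1 + 2 ≤ 3))
          (fun i => s.2 _) x
        exact ⟨x', hρ₁' x'⟩) (by
      intro y hy
      rw [hρ₁']
      exact htor k hk _ (isDiag_fr hF _ _ _ hy))
    have hd3 : ∀ i : Fin 3, (![1, d, 1] : Fin 3 → F) i * (![1, d, 1] : Fin 3 → F) i ^ q = 1 := by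
      intro i
      fin_cases i
      · simp
      · exact hd 1
      · simp
    refine ⟨⟨(τ, ![1, d, 1]), hd3⟩, fun _ x => ?_⟩
    have h3 : ψ (k + 1) (fr hF τ ![1, d, 1] hd3 (emb hF 0 (by omega : 0 + 2 ≤ 3) x)) =
        ρ₂ (fr hF τ ![1, d] hd x) := by
      rw [fr_emb]
      change _ = ψ (k + 1) (emb hF 0 (by omega : 0 + 2 ≤ 3) _)
      congr 2
    change ψ (k + 1) (fr hF τ ![1, d, 1] hd3 (emb hF 0 (by omega : 0 + 2 ≤ 3) x)) = _
    rw [h3, h x]
    rfl
  choose nxt hnxt using step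
  let s₀ : {p : (F ≃+* F) × (Fin 3 → F) // ∀ i, p.2 i * p.2 i ^ q = 1} :=
    ⟨(RingEquiv.refl F, fun _ => 1), fun i => by simp⟩
  let s : ℕ → {p : (F ≃+* F) × (Fin 3 → F) // ∀ i, p.2 i * p.2 i ^ q = 1} :=
    fun k => Nat.rec s₀ (fun k s => nxt k s) k
  have hs : ∀ k, s (k + 1) = nxt k (s k) := fun k => rfl
  let g : ℕ → (SU 3 F q →* H) := fun k => (ψ k).comp (fr hF (s k).1.1 (s k).1.2 (s k).2)
  have hg : ∀ k, k + 4 ≤ n → ∀ x : SU 2 F q,
      g (k + 1) (emb hF 0 (by omega : 0 + 2 ≤ 3) x) = g k (emb hF 1 (by omega : 1 + 2 ≤ 3) x) := by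
    intro k hk x
    change ψ (k + 1) (fr hF (s (k + 1)).1.1 (s (k + 1)).1.2 (s (k + 1)).2 _) = _
    rw [hs]
    exact hnxt k (s k) hk x
  have hg' : ∀ k (a : ℕ) (ha : a + 2 ≤ 3) (x : SU 2 F q), ∃ x' : SU 2 F q,
      g k (emb hF a ha x) = ψ k (emb hF a ha x') := by
    intro k a ha x
    exact ⟨_, by
      change ψ k (fr hF (s k).1.1 (s k).1.2 (s k).2 (emb hF a ha x)) = _
      rw [fr_emb]⟩
  refine ⟨fun k => if k + 3 ≤ n then (g k).comp (emb hF 0 (by omega : 0 + 2 ≤ 3)) else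
    (g (k - 1)).comp (emb hF 1 (by omega : 1 + 2 ≤ 3)), g, ⟨?_, ?_, ?_⟩, ?_⟩
  · intro k hk a
    simp only [hk, if_true]
    rfl
  · intro k hk a
    by_cases hk' : k + 1 + 3 ≤ n
    · simp only [hk', if_true]
      exact (hg k (by omega) a).symm
    · simp only [hk', if_false]
      rfl
  · intro i j hij hj a b
    have hi : i + 3 ≤ n := by omega
    simp only [hi, if_true]
    change g i (emb hF 0 _ a) * _ = _ * g i (emb hF 0 _ a)
    obtain ⟨a', ha'⟩ := hg' i 0 (by omega) a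
    by_cases hj' : j + 3 ≤ n
    · simp only [hj', if_true]
      change g i (emb hF 0 _ a) * g j (emb hF 0 _ b) = g j (emb hF 0 _ b) * g i (emb hF 0 _ a)
      obtain ⟨b', hb'⟩ := hg' j 0 (by omega) b
      rw [ha', hb']
      exact hcomm i j 0 0 hi hj' _ _ (by omega) a' b'
    · simp only [hj', if_false]
      change g i (emb hF 0 _ a) * g (j - 1) (emb hF 1 _ b) =
        g (j - 1) (emb hF 1 _ b) * g i (emb hF 0 _ a)
      obtain ⟨b', hb'⟩ := hg' (j - 1) 1 (by omega) b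
      rw [ha', hb']
      exact hcomm i (j - 1) 0 1 hi (by omega) _ _ (by omega) a' b'
  · intro k
    exact ⟨(s k).1.1, (s k).1.2, (s k).2, rfl⟩

end Cfsg.Agent.Phan
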