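import Cfsg.Agent.Phan.Geo

/-!
# Common neighbours of four vectors of norm one (`q ≥ 5`)
-/

set_option autoImplicit false

namespace Cfsg.Agent.Phan

open Matrix Cfsg
open Cfsg.Agent.LieClassical.HermBasic

variable {F : Type*} [Field F] {q : ℕ} [Fintype F]

/-- isotropic vectors separate -/
theorem exists_isotropic_ne (hF : Fintype.card F = q ^ 2) {n : ℕ} {a : Fin (n + 2) → F}
    (ha : a ≠ 0) : ∃ r : Fin (n + 2) → F, hermForm (n + 2) F q r r = 0 ∧
      hermForm (n + 2) F q r a ≠ 0 := by
  obtain ⟨i, hi⟩ : ∃ i, a i ≠ 0 := by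
    by_contra h
    push Not at h
    exact ha (funext h)
  obtain ⟨j, hj⟩ : ∃ j : Fin (n + 2), j ≠ i := exists_ne i
  obtain ⟨ε, hε⟩ := exists_norm_eq hF (c := (-1 : F)) (by rw [neg_pow_q hF, one_pow])
  have hε0 : ε ≠ 0 := by
    rintro rfl
    rw [zero_mul] at hε
    exact neg_ne_zero.2 one_ne_zero hε.symm
  obtain ⟨c, hc, hc1⟩ := Cfsg.Agent.LieClassical.GUOrder.exists_norm_one hF
  have key : ∀ δ : F, δ * δ ^ q = -1 → hermForm (n + 2) F q (Pi.single i 1 + Pi.single j δ)
      (Pi.single i 1 + Pi.single j δ) = 0 := by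
    intro δ hδ
    rw [herm_add_left, herm_single_left, herm_single_left, Pi.add_apply, Pi.add_apply,
      Pi.single_eq_same, Pi.single_eq_same, Pi.single_eq_of_ne hj, Pi.single_eq_of_ne hj.symm,
      add_zero, zero_add, one_pow, hδ, one_mul, add_neg_cancel]
  have key2 : ∀ δ : F, hermForm (n + 2) F q (Pi.single i 1 + Pi.single j δ) a =
      a i ^ q + δ * a j ^ q := by
    intro δ
    rw [herm_add_left, herm_single_left, herm_single_left, one_mul]
  by_contra hcon
  push Not at hcon
  have h1 := hcon _ (key ε hε)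
  have h2 := hcon _ (key (ε * c) (by
    rw [mul_pow]
    calc ε * c * (ε ^ q * c ^ q) = (ε * ε ^ q) * (c ^ (q + 1)) := by ring
      _ = -1 := by rw [hε, hc, mul_one]))
  rw [key2] at h1 h2
  have h3 : ε * (1 - c) * a j ^ q = 0 := by
    linear_combination h1 - h2
  have h4 : a j ^ q = 0 := by
    rcases mul_eq_zero.1 h3 with h | h
    · exact absurd h (mul_ne_zero hε0 (sub_ne_zero.2 (Ne.symm hc1)))
    · exact h
  rw [h4, mul_zero, add_zero] at h1
  exact hi ((pow_q_eq_zero hF).1 h1)

/-- isotropic vectors perpendicular to `x` separate -/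
theorem exists_isotropic_perp (hF : Fintype.card F = q ^ 2) {n : ℕ} (x : Pt (n + 3) F q)
    {a : Fin (n + 3) → F} (ha : ∀ c : F, a ≠ c • x.val) :
    ∃ r : Fin (n + 3) → F, hermForm (n + 3) F q r r = 0 ∧ hermForm (n + 3) F q r x.val = 0 ∧
      hermForm (n + 3) F q r a ≠ 0 := by
  obtain ⟨g, hg⟩ := exists_su_smul hF (e0 (n + 2) F q) x
  have hgx : mat g *ᵥ (e0 (n + 2) F q).val = x.val := congrArg Pt.val hg
  set a' := mat g⁻¹ *ᵥ a with ha'
  have haa : mat g *ᵥ a' = a := by
    rw [ha', Matrix.mulVec_mulVec, mat_mul_inv, Matrix.one_mulVec]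
  have htail : (fun j : Fin (n + 2) => a' j.succ) ≠ 0 := by
    intro h0
    apply ha (a' 0)
    have h1 : a' = a' 0 • (e0 (n + 2) F q).val := by
      funext i
      refine Fin.cases ?_ (fun i => ?_) i
      · rw [Pi.smul_apply, e0_val, Pi.single_eq_same, smul_eq_mul, mul_one]
      · rw [Pi.smul_apply, e0_val, Pi.single_eq_of_ne (Fin.succ_ne_zero i), smul_zero]
        exact congrFun h0 i
    rw [← haa, h1, Matrix.mulVec_smul, hgx]
    congr 1
    rw [Pi.smul_apply, e0_val, Pi.single_eq_same, smul_eq_mul, mul_one]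
  obtain ⟨r, hr, hra⟩ := exists_isotropic_ne hF htail
  refine ⟨mat g *ᵥ (Fin.cons 0 r), ?_, ?_, ?_⟩
  · rw [mat_isom, herm_cons, hr, zero_mul, zero_add]
  · rw [← hgx, mat_isom, herm_e0_right hF, Fin.cons_zero]
  · rw [← haa, mat_isom]
    have h1 : a' = Fin.cons (a' 0) (fun j => a' j.succ) := by
      funext i
      refine Fin.cases ?_ (fun i => ?_) i
      · rw [Fin.cons_zero]
      · rw [Fin.cons_succ]
    rw [h1, herm_cons, zero_mul, zero_add]
    exact hra

/-- the number of bad parameters on a line -/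
theorem card_bad_le (hF : Fintype.card F = q ^ 2) [DecidableEq F] (c d : F) (hd : d ≠ 0) :
    (Finset.univ.filter fun s : F => (c + s * d) * (c + s * d) ^ q = 1).card ≤ q + 1 := by
  classical
  have h1 : (Finset.univ.filter fun y : F => y * y ^ q = 1).card = q + 1 := by
    rw [← card_norm_eq_one hF, Nat.card_eq_fintype_card, Fintype.card_subtype]
  rw [← h1]
  refine Finset.card_le_card_of_injOn (fun s => c + s * d) ?_ ?_
  · intro s hs
    simp only [Finset.coe_filter, Finset.mem_univ, true_and, Set.mem_setOf_eq] at hs ⊢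
    exact hs
  · intro s _ t _ hst
    simp only [add_right_inj] at hst
    exact mul_right_cancel₀ hd hst

/-- moving along an isotropic direction -/
theorem exists_move (hF : Fintype.card F = q ^ 2) {n : ℕ} (x : Pt (n + 3) F q)
    {r : Fin (n + 3) → F} (hr : hermForm (n + 3) F q r r = 0)
    (hrx : hermForm (n + 3) F q r x.val = 0) (T : Finset (Pt (n + 3) F q)) (B : Finset F)
    (hT : ∀ b ∈ T, hermForm (n + 3) F q r b.val ≠ 0 ∨ adj x b)
    (hcard : T.card * (q + 1) + B.card < q ^ 2) :
    ∃ s ∉ B, ∃ x' : Pt (n + 3) F q, x'.val = x.val + s • r ∧ ∀ b ∈ T, adj x' b := by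
  classical
  have hnorm : ∀ s : F, hermForm (n + 3) F q (x.val + s • r) (x.val + s • r) = 1 := by
    intro s
    have h1 : hermForm (n + 3) F q x.val r = 0 := herm_eq_zero_swap hF hrx
    rw [herm_add_left, herm_add_right hF, herm_add_right hF, herm_smul_left, herm_smul_right,
      herm_smul_left, herm_smul_right, x.norm, hr, hrx, h1]
    ring
  set bad : Pt (n + 3) F q → Finset F := fun b =>
    Finset.univ.filter fun s : F => (hermForm (n + 3) F q x.val b.val +
      s * hermForm (n + 3) F q r b.val) * (hermForm (n + 3) F q x.val b.val +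
      s * hermForm (n + 3) F q r b.val) ^ q = 1 with hbad
  have hadj : ∀ (s : F) (x' : Pt (n + 3) F q), x'.val = x.val + s • r → ∀ b, s ∉ bad b →
      adj x' b := by
    intro s x' hx' b hs
    rw [hbad] at hs
    simp only [Finset.mem_filter, Finset.mem_univ, true_and] at hs
    rw [adj, herm_swap hF x'.val b.val, hx', herm_add_left, herm_smul_left]
    exact hs
  have hle : ∀ b ∈ T, (bad b).card ≤ q + 1 := by
    intro b hb
    rcases hT b hb with h | h
    · exact card_bad_le hF _ _ h
    · by_cases h0 : hermForm (n + 3) F q r b.val = 0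
      · have : bad b = ∅ := by
          rw [hbad]
          apply Finset.filter_false_of_mem
          intro s _
          rw [h0, mul_zero, add_zero, ← herm_swap hF]
          exact h
        rw [this, Finset.card_empty]
        omega
      · exact card_bad_le hF _ _ h0
  have hcardU : (B ∪ T.biUnion bad).card < (Finset.univ : Finset F).card := by
    rw [Finset.card_univ, hF]
    calc (B ∪ T.biUnion bad).card ≤ B.card + (T.biUnion bad).card := Finset.card_union_le _ _
      _ ≤ B.card + T.card * (q + 1) := by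
          gcongr
          exact Finset.card_biUnion_le_card_mul _ _ _ hle
      _ < q ^ 2 := by omega
  obtain ⟨s, -, hs⟩ := Finset.exists_mem_notMem_of_card_lt_card hcardU
  rw [Finset.mem_union, Finset.mem_biUnion] at hs
  push Not at hs
  refine ⟨s, hs.1, ⟨x.val + s • r, hnorm s⟩, rfl, ?_⟩
  intro b hb
  exact hadj s _ rfl b (hs.2 b hb)

/-- **Common neighbours.** -/
theorem exists_common_of (hF : Fintype.card F = q ^ 2) {m : ℕ} (hm : m * (q + 1) < q ^ 2) {n : ℕ}
    (S : Finset (Pt (n + 3) F q)) (hS : S.card ≤ m) : ∃ x : Pt (n + 3) F q, ∀ b ∈ S, adj x b := by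
  classical
  induction S using Finset.induction_on with
  | empty => exact ⟨e0 (n + 2) F q, fun b hb => absurd hb (Finset.notMem_empty b)⟩
  | @insert a S ha ih =>
    rw [Finset.card_insert_of_notMem ha] at hS
    obtain ⟨x, hx⟩ := ih (by omega)
    have hqq : (S.card + 1) * (q + 1) < q ^ 2 := lt_of_le_of_lt (Nat.mul_le_mul_right _ hS) hm
    -- first move away from `⟨a⟩`
    obtain ⟨x', hx', hax'⟩ : ∃ x' : Pt (n + 3) F q, (∀ b ∈ S, adj x' b) ∧
        ∀ c : F, a.val ≠ c • x'.val := by
      by_cases h : ∀ c : F, a.val ≠ c • x.val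
      · exact ⟨x, hx, h⟩
      · push Not at h
        obtain ⟨c, hc⟩ := h
        -- an isotropic vector perpendicular to `x`
        obtain ⟨v, hv⟩ : ∃ v : Fin (n + 3) → F, ∀ c : F, v ≠ c • x.val := by
          by_contra hcon
          push Not at hcon
          obtain ⟨c0, h0⟩ := hcon (Pi.single 0 1)
          obtain ⟨c1, h1⟩ := hcon (Pi.single 1 1)
          have e00 := congrFun h0 0
          have e01 := congrFun h0 1
          have e11 := congrFun h1 1
          have e10 := congrFun h1 0
          simp only [Pi.smul_apply, smul_eq_mul, Pi.single_eq_same] at e00 e11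
          rw [Pi.single_eq_of_ne (by simp)] at e01 e10
          simp only [Pi.smul_apply, smul_eq_mul] at e01 e10
          have hx1 : x.val 1 ≠ 0 := by
            intro h; rw [h, mul_zero] at e11; exact one_ne_zero e11
          have hc0 : c0 ≠ 0 := by
            intro h; rw [h, zero_mul] at e00; exact one_ne_zero e00
          rcases mul_eq_zero.1 e01.symm with h | h
          · exact hc0 h
          · exact hx1 h
        obtain ⟨r, hr, hrx, hrv⟩ := exists_isotropic_perp hF x hv
        have hr0 : r ≠ 0 := by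
          rintro rfl
          exact hrv (herm_zero_left _)
        obtain ⟨s, hs, x', hx', hadj⟩ := exists_move hF x hr hrx S {0} (fun b hb => Or.inr (hx b hb))
          (by
            rw [Finset.card_singleton]
            have h2 : (S.card + 1) * (q + 1) = S.card * (q + 1) + (q + 1) := by ring
            omega)
        rw [Finset.mem_singleton] at hs
        refine ⟨x', hadj, ?_⟩
        intro c' hc'
        rw [hc, hx'] at hc'
        -- take the form with `x`
        have h1 : hermForm (n + 3) F q (c • x.val) x.val =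
            hermForm (n + 3) F q (c' • (x.val + s • r)) x.val := by rw [hc']
        rw [herm_smul_left, herm_smul_left, herm_add_left, herm_smul_left, x.norm, hrx, mul_zero,
          add_zero, mul_one, mul_one] at h1
        rw [h1, smul_add, left_eq_add, smul_eq_zero, smul_eq_zero] at hc'
        rcases hc' with h2 | h2 | h2
        · rw [h1, h2, zero_smul] at hc
          have := a.norm
          rw [hc, herm_zero_left] at this
          exact zero_ne_one this
        · exact hs h2
        · exact hr0 h2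
    obtain ⟨r, hr, hrx, hra⟩ := exists_isotropic_perp hF x' hax'
    obtain ⟨s, -, y, -, hy⟩ := exists_move hF x' hr hrx (insert a S) ∅ (by
      intro b hb
      rcases Finset.mem_insert.1 hb with rfl | hb
      · exact Or.inl hra
      · exact Or.inr (hx' b hb)) (by
      rw [Finset.card_empty, Finset.card_insert_of_notMem ha]
      exact hqq)
    exact ⟨y, hy⟩

theorem exists_common (hF : Fintype.card F = q ^ 2) (hq : 5 ≤ q) {n : ℕ}
    (S : Finset (Pt (n + 3) F q)) (hS : S.card ≤ 4) : ∃ x : Pt (n + 3) F q, ∀ b ∈ S, adj x b :=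
  exists_common_of hF (m := 4) (by nlinarith) S hS

/-- two vectors, `q ≥ 3` -/
theorem exists_common_two (hF : Fintype.card F = q ^ 2) (hq : 3 ≤ q) {n : ℕ}
    (u v : Pt (n + 3) F q) : ∃ y, adj u y ∧ adj v y := by
  classical
  obtain ⟨y, hy⟩ := exists_common_of hF (m := 2) (by nlinarith)
    ({u, v} : Finset (Pt (n + 3) F q)) Finset.card_le_two
  exact ⟨y, adj_symm (hy u (by simp)), adj_symm (hy v (by simp))⟩

theorem exists_common_four (hF : Fintype.card F = q ^ 2) (hq : 5 ≤ q) {n : ℕ}
    (u v w x : Pt (n + 3) F q) : ∃ y, adj u y ∧ adj v y ∧ adj w y ∧ adj x y := by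
  classical
  obtain ⟨y, hy⟩ := exists_common hF hq ({u, v, w, x} : Finset (Pt (n + 3) F q))
    Finset.card_le_four
  exact ⟨y, adj_symm (hy u (by simp)), adj_symm (hy v (by simp)), adj_symm (hy w (by simp)),
    adj_symm (hy x (by simp))⟩

/-! ### triangles -/

/-- a unit vector with prescribed product with an isotropic vector -/
theorem exists_unit_of_isotropic (hF : Fintype.card F = q ^ 2) {n : ℕ} {r : Fin n → F}
    (hr : hermForm n F q r r = 0) (hr0 : r ≠ 0) {γ : F} (hγ : γ ≠ 0) :
    ∃ x : Pt n F q, hermForm n F q x.val r = γ := by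
  obtain ⟨s, hs⟩ := exists_herm_ne_zero hF hr0
  have hs' : hermForm n F q s r ≠ 0 := fun h => hs (herm_eq_zero_swap hF h)
  -- normalise
  obtain ⟨t, ht⟩ : ∃ t : Fin n → F, hermForm n F q t r = γ :=
    ⟨(γ * (hermForm n F q s r)⁻¹) • s, by
      rw [herm_smul_left, mul_assoc, inv_mul_cancel₀ hs', mul_one]⟩
  obtain ⟨τ, hτ⟩ := exists_trace_eq hF (c := 1 - hermForm n F q t t) (by
    rw [sub_pow_q hF, one_pow, herm_self_pow hF])
  -- `x = t + (τ / γ^q) r`
  have hγq : γ ^ q ≠ 0 := pow_ne_zero _ hγ
  have hrt : hermForm n F q r t = γ ^ q := by rw [herm_swap hF t r, ht]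
  refine ⟨⟨t + (τ * (γ ^ q)⁻¹) • r, ?_⟩, ?_⟩
  · rw [herm_add_left, herm_add_right hF, herm_add_right hF, herm_smul_left, herm_smul_right,
      herm_smul_left, herm_smul_right, hr, hrt, ht, mul_pow, inv_pow, pow_q_pow_q hF]
    have h1 : τ * (γ ^ q)⁻¹ * (γ ^ q) = τ := by rw [mul_assoc, inv_mul_cancel₀ hγq, mul_one]
    have h2 : τ ^ q * γ⁻¹ * γ = τ ^ q := by rw [mul_assoc, inv_mul_cancel₀ hγ, mul_one]
    rw [h1, h2]
    linear_combination hτ
  · change hermForm n F q (t + (τ * (γ ^ q)⁻¹) • r) r = γ
    rw [herm_add_left, herm_smul_left, hr, ht, mul_zero, add_zero]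

/-- unit vectors whose product with a given vector avoids three norms -/
theorem exists_unit_avoid (hF : Fintype.card F = q ^ 2) (hq : 5 ≤ q) {n : ℕ}
    (r : Fin (n + 2) → F) (c₁ c₂ c₃ : F) (h₁ : c₁ ≠ 0) (h₂ : c₂ ≠ 0) (h₃ : c₃ ≠ 0) :
    ∃ x : Pt (n + 2) F q, ∃ γ : F, hermForm (n + 2) F q x.val r = γ ∧ γ * γ ^ q ≠ c₁ ∧
      γ * γ ^ q ≠ c₂ ∧ γ * γ ^ q ≠ c₃ := by
  classical
  by_cases hr0 : r = 0
  · refine ⟨e0 (n + 1) F q, 0, by rw [hr0, herm_zero_right hF], ?_, ?_, ?_⟩ <;>
    · rw [zero_mul]; exact Ne.symm ‹_›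
  by_cases hr : hermForm (n + 2) F q r r = 0
  · have hbad : ∀ c : F, (Finset.univ.filter fun y : F => y * y ^ q = c).card ≤ q + 1 := by
      intro c
      by_cases hc0 : c = 0
      · subst hc0
        have : (Finset.univ.filter fun y : F => y * y ^ q = 0) ⊆ {0} := by
          intro y hy
          simp only [Finset.mem_filter, Finset.mem_univ, true_and] at hy
          rw [Finset.mem_singleton]
          exact (norm_eq_zero hF).1 hy
        have := Finset.card_le_card this
        rw [Finset.card_singleton] at this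
        omega
      · by_cases hc : c ^ q = c
        · rw [← card_norm_eq hF hc hc0, Nat.card_eq_fintype_card, Fintype.card_subtype]
        · have : (Finset.univ.filter fun y : F => y * y ^ q = c) = ∅ := by
            apply Finset.filter_false_of_mem
            intro y _ hy
            apply hc
            rw [← hy, norm_pow_q hF]
          rw [this, Finset.card_empty]
          omega
    have hex : ∃ γ : F, γ ≠ 0 ∧ γ * γ ^ q ≠ c₁ ∧ γ * γ ^ q ≠ c₂ ∧ γ * γ ^ q ≠ c₃ := by
      have hlt : ({0} ∪ ((Finset.univ.filter fun y : F => y * y ^ q = c₁) ∪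
          ((Finset.univ.filter fun y : F => y * y ^ q = c₂) ∪
          (Finset.univ.filter fun y : F => y * y ^ q = c₃)))).card <
          (Finset.univ : Finset F).card := by
        rw [Finset.card_univ, hF]
        have a1 := Finset.card_union_le ({0} : Finset F)
          ((Finset.univ.filter fun y : F => y * y ^ q = c₁) ∪
          ((Finset.univ.filter fun y : F => y * y ^ q = c₂) ∪
          (Finset.univ.filter fun y : F => y * y ^ q = c₃)))
        have a2 := Finset.card_union_le (Finset.univ.filter fun y : F => y * y ^ q = c₁)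
          ((Finset.univ.filter fun y : F => y * y ^ q = c₂) ∪
          (Finset.univ.filter fun y : F => y * y ^ q = c₃))
        have a3 := Finset.card_union_le (Finset.univ.filter fun y : F => y * y ^ q = c₂)
          (Finset.univ.filter fun y : F => y * y ^ q = c₃)
        have b1 := hbad c₁
        have b2 := hbad c₂
        have b3 := hbad c₃
        rw [Finset.card_singleton] at a1
        have : 1 + 3 * (q + 1) < q ^ 2 := by nlinarith
        omega
      obtain ⟨γ, -, hγ⟩ := Finset.exists_mem_notMem_of_card_lt_card hlt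
      simp only [Finset.mem_union, Finset.mem_singleton, Finset.mem_filter, Finset.mem_univ,
        true_and, not_or] at hγ
      exact ⟨γ, hγ.1, hγ.2.1, hγ.2.2.1, hγ.2.2.2⟩
    obtain ⟨γ, hγ0, h1, h2, h3⟩ := hex
    obtain ⟨x, hx⟩ := exists_unit_of_isotropic hF hr hr0 hγ0
    exact ⟨x, γ, hx, h1, h2, h3⟩
  · obtain ⟨μ, hμ0, hμ⟩ := exists_norm_eq_ne hF (herm_self_pow hF r) hr
    obtain ⟨g, hg⟩ := exists_su_map hF (n := n) (u := Pi.single 0 μ) (v := r) (by
      rw [herm_single_left, Pi.single_eq_same, hμ]) (by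
      rw [herm_single_left, Pi.single_eq_same, hμ]; exact hr)
    refine ⟨⟨mat g *ᵥ (Pi.single 1 1), ?_⟩, 0, ?_, ?_, ?_, ?_⟩
    · rw [mat_isom, herm_single_left, Pi.single_eq_same, one_pow, mul_one]
    · change hermForm (n + 2) F q (mat g *ᵥ (Pi.single 1 1)) r = 0
      rw [← hg, mat_isom, herm_single_left, Pi.single_eq_of_ne (by simp), zero_pow_q hF, mul_zero]
    all_goals
      rw [zero_mul]; exact Ne.symm ‹_›

end Cfsg.Agent.Phan
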