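import Cfsg.Agent.Phan.SU2Aut

/-!
# Frame automorphisms of `SU n F q`: diagonal matrices and field automorphisms
-/

set_option autoImplicit false

namespace Cfsg.Agent.Phan

open Matrix Cfsg
open Cfsg.Agent.LieClassical.HermBasic

variable {F : Type*} [Field F] {q : ℕ}

/-- `x ↦ diag(d) τ(x) diag(d)⁻¹` on matrices. -/
def frM {n : ℕ} (τ : F ≃+* F) (d : Fin n → F) (A : Matrix (Fin n) (Fin n) F) :
    Matrix (Fin n) (Fin n) F :=
  Matrix.diagonal d * A.map τ * Matrix.diagonal (fun i => (d i)⁻¹)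

theorem frM_apply {n : ℕ} (τ : F ≃+* F) (d : Fin n → F) (A : Matrix (Fin n) (Fin n) F)
    (i j : Fin n) : frM τ d A i j = d i * τ (A i j) * (d j)⁻¹ := by
  rw [frM, Matrix.mul_diagonal, Matrix.diagonal_mul, Matrix.map_apply]

theorem diag_mul_inv {n : ℕ} {d : Fin n → F} (hd : ∀ i, d i ≠ 0) :
    Matrix.diagonal (fun i => (d i)⁻¹) * Matrix.diagonal d = 1 := by
  rw [Matrix.diagonal_mul_diagonal, ← Matrix.diagonal_one]
  congr 1
  funext i
  exact inv_mul_cancel₀ (hd i)

theorem diag_mul_inv' {n : ℕ} {d : Fin n → F} (hd : ∀ i, d i ≠ 0) :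
    Matrix.diagonal d * Matrix.diagonal (fun i => (d i)⁻¹) = 1 := by
  rw [Matrix.diagonal_mul_diagonal, ← Matrix.diagonal_one]
  congr 1
  funext i
  exact mul_inv_cancel₀ (hd i)

theorem frM_mul {n : ℕ} (τ : F ≃+* F) {d : Fin n → F} (hd : ∀ i, d i ≠ 0)
    (A B : Matrix (Fin n) (Fin n) F) : frM τ d (A * B) = frM τ d A * frM τ d B := by
  have h : (A * B).map τ = A.map τ * B.map τ := by
    change (A * B).map (τ : F →+* F) = A.map (τ : F →+* F) * B.map (τ : F →+* F)
    rw [Matrix.map_mul]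
  rw [frM, frM, frM, h]
  calc Matrix.diagonal d * (A.map τ * B.map τ) * Matrix.diagonal (fun i => (d i)⁻¹)
      = Matrix.diagonal d * A.map τ * 1 * B.map τ * Matrix.diagonal (fun i => (d i)⁻¹) := by
        simp only [Matrix.mul_assoc, Matrix.one_mul]
    _ = _ := by rw [← diag_mul_inv hd]; simp only [Matrix.mul_assoc]

theorem frM_one {n : ℕ} (τ : F ≃+* F) {d : Fin n → F} (hd : ∀ i, d i ≠ 0) :
    frM τ d (1 : Matrix (Fin n) (Fin n) F) = 1 := by
  rw [frM, Matrix.map_one _ (map_zero τ) (map_one τ), Matrix.mul_one, diag_mul_inv' hd]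

theorem frM_det {n : ℕ} (τ : F ≃+* F) {d : Fin n → F} (hd : ∀ i, d i ≠ 0)
    (A : Matrix (Fin n) (Fin n) F) : (frM τ d A).det = τ A.det := by
  have h : (A.map τ).det = τ A.det := by
    change (A.map (τ : F →+* F)).det = (τ : F →+* F) A.det
    rw [RingHom.map_det]; rfl
  have h2 := congrArg Matrix.det (diag_mul_inv' hd)
  rw [Matrix.det_mul, Matrix.det_one] at h2
  rw [frM, Matrix.det_mul, Matrix.det_mul, h]
  calc (Matrix.diagonal d).det * τ A.det * (Matrix.diagonal (fun i => (d i)⁻¹)).det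
      = ((Matrix.diagonal d).det * (Matrix.diagonal (fun i => (d i)⁻¹)).det) * τ A.det := by ring
    _ = _ := by rw [h2, one_mul]

theorem herm_diag {n : ℕ} {d : Fin n → F} (hd : ∀ i, d i * d i ^ q = 1) (u v : Fin n → F) :
    hermForm n F q (Matrix.diagonal d *ᵥ u) (Matrix.diagonal d *ᵥ v) = hermForm n F q u v := by
  rw [herm_def, herm_def]
  refine Finset.sum_congr rfl fun i _ => ?_
  rw [Matrix.mulVec_diagonal, Matrix.mulVec_diagonal, mul_pow]
  calc d i * u i * (d i ^ q * v i ^ q) = (d i * d i ^ q) * (u i * v i ^ q) := by ring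
    _ = _ := by rw [hd, one_mul]

variable [Fintype F]

theorem frM_isom (hF : Fintype.card F = q ^ 2) {n : ℕ} (τ : F ≃+* F) {d : Fin n → F}
    (hd : ∀ i, d i * d i ^ q = 1) {A : Matrix (Fin n) (Fin n) F}
    (hA : ∀ u v, hermForm n F q (A *ᵥ u) (A *ᵥ v) = hermForm n F q u v) (u v : Fin n → F) :
    hermForm n F q (frM τ d A *ᵥ u) (frM τ d A *ᵥ v) = hermForm n F q u v := by
  have h1 : ∀ u v, hermForm n F q (A.map τ *ᵥ u) (A.map τ *ᵥ v) = hermForm n F q u v := by
    rw [Cfsg.Agent.LieClassical.GUOrder.mul_map_eq_one_iff hF] at hA ⊢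
    have h2 : (A.map τ).map (Cfsg.Agent.LieClassical.GUOrder.frob hF) =
        (A.map (Cfsg.Agent.LieClassical.GUOrder.frob hF)).map (τ : F →+* F) := by
      ext i j
      simp only [Matrix.map_apply, Cfsg.Agent.LieClassical.GUOrder.frob_apply]
      exact (map_pow τ _ _).symm
    have h3 : (A.map τ)ᵀ = (Aᵀ).map (τ : F →+* F) := by
      rw [Matrix.transpose_map]; rfl
    rw [h2, h3, ← Matrix.map_mul, hA, Matrix.map_one _ (map_zero _) (map_one _)]
  have hd' : ∀ i, (d i)⁻¹ * (d i)⁻¹ ^ q = 1 := by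
    intro i
    rw [inv_pow, ← mul_inv, hd, inv_one]
  rw [frM, ← Matrix.mulVec_mulVec, ← Matrix.mulVec_mulVec, ← Matrix.mulVec_mulVec,
    ← Matrix.mulVec_mulVec, herm_diag hd, h1, herm_diag hd']

theorem ne_zero_of_norm {x : F} (h : x * x ^ q = 1) : x ≠ 0 := by
  rintro rfl
  rw [zero_mul] at h
  exact zero_ne_one h

/-- The frame automorphism. -/
def fr (hF : Fintype.card F = q ^ 2) {n : ℕ} (τ : F ≃+* F) (d : Fin n → F)
    (hd : ∀ i, d i * d i ^ q = 1) : SU n F q →* SU n F q where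
  toFun x := mk (frM τ d (mat x))
    (by rw [frM_det τ (fun i => ne_zero_of_norm (hd i)), mat_det, map_one])
    (frM_isom hF τ hd (mat_isom x))
  map_one' := mat_inj (by
    rw [mat_mk, mat_one, frM_one τ (fun i => ne_zero_of_norm (hd i))])
  map_mul' x y := mat_inj (by
    rw [mat_mk, mat_mul, frM_mul τ (fun i => ne_zero_of_norm (hd i)), mat_mul, mat_mk, mat_mk])

theorem mat_fr (hF : Fintype.card F = q ^ 2) {n : ℕ} (τ : F ≃+* F) (d : Fin n → F)
    (hd : ∀ i, d i * d i ^ q = 1) (x : SU n F q) : mat (fr hF τ d hd x) = frM τ d (mat x) := rfl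

theorem fr_injective (hF : Fintype.card F = q ^ 2) {n : ℕ} (τ : F ≃+* F) (d : Fin n → F)
    (hd : ∀ i, d i * d i ^ q = 1) : Function.Injective (fr hF τ d hd) := by
  intro x y h
  apply mat_inj
  have h1 := congrArg mat h
  rw [mat_fr, mat_fr] at h1
  ext i j
  have h2 := congrFun (congrFun h1 i) j
  rw [frM_apply, frM_apply] at h2
  have hi := ne_zero_of_norm (hd i)
  have hj := inv_ne_zero (ne_zero_of_norm (hd j))
  exact τ.injective (mul_left_cancel₀ hi (mul_right_cancel₀ hj h2))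

theorem finite_SU (n : ℕ) : Finite (SU n F q) := by
  classical
  have h1 : Finite (Matrix (Fin n) (Fin n) F) := inferInstanceAs (Finite (Fin n → Fin n → F))
  have h2 : Finite (SpecialLinearGroup (Fin n) F) := Subtype.finite
  exact Subtype.finite

theorem fr_surjective (hF : Fintype.card F = q ^ 2) {n : ℕ} (τ : F ≃+* F) (d : Fin n → F)
    (hd : ∀ i, d i * d i ^ q = 1) : Function.Surjective (fr hF τ d hd) := by
  have := finite_SU (F := F) (q := q) n
  exact Finite.injective_iff_surjective.1 (fr_injective hF τ d hd)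

/-! ### entries of `extM` -/

omit [Fintype F] in
theorem extM_apply {m n : ℕ} {e : Fin m → Fin n} (he : Function.Injective e)
    (A : Matrix (Fin m) (Fin m) F) (i j : Fin m) : extM e A (e i) (e j) = A i j := by
  have h1 := extM_mulVec he A (Pi.single (e j) 1) i
  rw [Matrix.mulVec_single_one] at h1
  have h2 : (Pi.single (e j) 1 : Fin n → F) ∘ e = Pi.single j 1 := by
    funext k
    rw [Function.comp_apply]
    by_cases hk : k = j
    · subst hk; rw [Pi.single_eq_same, Pi.single_eq_same]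
    · rw [Pi.single_eq_of_ne hk, Pi.single_eq_of_ne (fun h => hk (he h))]
  rw [h2, Matrix.mulVec_single_one] at h1
  exact h1

omit [Fintype F] in
theorem extM_apply_left {m n : ℕ} {e : Fin m → Fin n} {x : Fin n} (h : ∀ i, x ≠ e i)
    (A : Matrix (Fin m) (Fin m) F) (y : Fin n) :
    extM e A x y = (1 : Matrix (Fin n) (Fin n) F) x y := by
  have h1 := extM_mulVec_of_notMem h A (Pi.single y 1)
  rw [Matrix.mulVec_single_one] at h1
  rw [Matrix.one_apply]
  change extM e A x y = _ at h1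
  rw [h1, Pi.single_apply]

omit [Fintype F] in
theorem extM_apply_right {m n : ℕ} {e : Fin m → Fin n} (he : Function.Injective e) {y : Fin n}
    (h : ∀ i, y ≠ e i) (A : Matrix (Fin m) (Fin m) F) (x : Fin n) :
    extM e A x y = (1 : Matrix (Fin n) (Fin n) F) x y := by
  by_cases hx : ∀ i, x ≠ e i
  · exact extM_apply_left hx A y
  · push Not at hx
    obtain ⟨i, rfl⟩ := hx
    have h1 := extM_mulVec he A (Pi.single y 1) i
    rw [Matrix.mulVec_single_one] at h1
    have h2 : (Pi.single y 1 : Fin n → F) ∘ e = 0 := by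
      funext k
      rw [Function.comp_apply, Pi.single_eq_of_ne (h k).symm, Pi.zero_apply]
    rw [h2, Matrix.mulVec_zero] at h1
    rw [Matrix.one_apply_ne (h i).symm]
    exact h1

theorem fr_ext (hF : Fintype.card F = q ^ 2) {m n : ℕ} {e : Fin m → Fin n}
    (he : Function.Injective e) (τ : F ≃+* F) (d : Fin n → F) (hd : ∀ i, d i * d i ^ q = 1)
    (x : SU m F q) :
    fr hF τ d hd (ext hF e he x) = ext hF e he (fr hF τ (d ∘ e) (fun i => hd (e i)) x) := by
  apply mat_inj
  rw [mat_fr, mat_ext, mat_ext, mat_fr]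
  ext a b
  rw [frM_apply]
  have hone : ∀ a b : Fin n, d a * τ ((1 : Matrix (Fin n) (Fin n) F) a b) * (d b)⁻¹ =
      (1 : Matrix (Fin n) (Fin n) F) a b := by
    intro a b
    by_cases hab : a = b
    · subst hab
      rw [Matrix.one_apply_eq, map_one, mul_one]
      exact mul_inv_cancel₀ (ne_zero_of_norm (hd a))
    · rw [Matrix.one_apply_ne hab, map_zero, mul_zero, zero_mul]
  by_cases ha : ∀ i, a ≠ e i
  · rw [extM_apply_left ha, extM_apply_left ha, hone]
  · by_cases hb : ∀ i, b ≠ e i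
    · rw [extM_apply_right he hb, extM_apply_right he hb, hone]
    · push Not at ha hb
      obtain ⟨i, rfl⟩ := ha
      obtain ⟨j, rfl⟩ := hb
      rw [extM_apply he, extM_apply he, frM_apply]
      rfl

theorem fr_emb (hF : Fintype.card F = q ^ 2) {m n : ℕ} (k : ℕ) (h : k + m ≤ n) (τ : F ≃+* F)
    (d : Fin n → F) (hd : ∀ i, d i * d i ^ q = 1) (x : SU m F q) :
    fr hF τ d hd (emb hF k h x) =
      emb hF k h (fr hF τ (d ∘ sh k h) (fun i => hd (sh k h i)) x) :=
  fr_ext hF _ τ d hd x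

theorem fr_congr (hF : Fintype.card F = q ^ 2) {n : ℕ} (τ : F ≃+* F) {d d' : Fin n → F}
    (hd : ∀ i, d i * d i ^ q = 1) (hd' : ∀ i, d' i * d' i ^ q = 1) (h : d = d') (x : SU n F q) :
    fr hF τ d hd x = fr hF τ d' hd' x := by
  subst h; rfl

end Cfsg.Agent.Phan
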