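import Cfsg.Agent.Phan.Ext

/-!
# Norm one vectors of the Hermitian space: transitivity of `SU n F q`, stabilisers
-/

set_option autoImplicit false

namespace Cfsg.Agent.Phan

open Matrix Cfsg
open Cfsg.Agent.LieClassical.HermBasic
open Cfsg.Agent.LieClassical (GUOrder.exists_gu_map)

variable {F : Type*} [Field F] {q : ℕ}

/-- Vectors of norm one. -/
structure Pt (n : ℕ) (F : Type*) [Field F] (q : ℕ) where
  /-- the vector -/
  val : Fin n → F
  norm : hermForm n F q val val = 1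

theorem Pt.ext' {n : ℕ} {u v : Pt n F q} (h : u.val = v.val) : u = v := by
  cases u; cases v; cases h; rfl

instance ptAction (n : ℕ) (F : Type*) [Field F] (q : ℕ) : MulAction (SU n F q) (Pt n F q) where
  smul g v := ⟨mat g *ᵥ v.val, by rw [mat_isom, v.norm]⟩
  one_smul v := by
    apply Pt.ext'
    change mat (1 : SU n F q) *ᵥ v.val = v.val
    rw [mat_one, Matrix.one_mulVec]
  mul_smul a b v := by
    apply Pt.ext'
    change mat (a * b) *ᵥ v.val = mat a *ᵥ (mat b *ᵥ v.val)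
    rw [mat_mul, Matrix.mulVec_mulVec]

theorem smul_val {n : ℕ} (g : SU n F q) (v : Pt n F q) : (g • v).val = mat g *ᵥ v.val := rfl

/-- Adjacency: the two vectors span a non-degenerate plane. -/
def adj {n : ℕ} (u v : Pt n F q) : Prop :=
  hermForm n F q u.val v.val * hermForm n F q v.val u.val ≠ 1

theorem adj_symm {n : ℕ} {u v : Pt n F q} (h : adj u v) : adj v u := by
  rwa [adj, mul_comm]

theorem adj_smul {n : ℕ} (g : SU n F q) {u v : Pt n F q} (h : adj u v) : adj (g • u) (g • v) := by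
  rw [adj, smul_val, smul_val, mat_isom, mat_isom]
  exact h

/-- The first basis vector. -/
def e0 (n : ℕ) (F : Type*) [Field F] (q : ℕ) : Pt (n + 1) F q where
  val := Pi.single 0 1
  norm := by rw [herm_single_left, Pi.single_eq_same, one_pow, mul_one]

theorem e0_val (n : ℕ) : (e0 n F q).val = Pi.single 0 1 := rfl

/-! ### coordinates -/

theorem extM_sh_one {n : ℕ} (A : Matrix (Fin n) (Fin n) F) :
    extM (sh 1 (by omega) : Fin n → Fin (n + 1)) A = Cfsg.Agent.LieClassical.GUOrder.ext1 1 A := by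
  have hsh : ∀ i : Fin n, (sh 1 (by omega) : Fin n → Fin (n + 1)) i = i.succ := by
    intro i
    apply Fin.ext
    rw [sh_val, Fin.val_succ]
    omega
  apply Matrix.ext_of_mulVec_single
  intro j
  funext x
  refine Fin.cases ?_ (fun i => ?_) x
  · rw [extM_mulVec_of_notMem, Cfsg.Agent.LieClassical.GUOrder.ext1_mulVec_zero, one_mul]
    intro i hi
    rw [hsh] at hi
    exact (Fin.succ_ne_zero i) hi.symm
  · rw [Cfsg.Agent.LieClassical.GUOrder.ext1_mulVec_succ, ← hsh,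
      extM_mulVec (sh_injective 1 (by omega))]
    congr 2
    funext k
    exact hsh k

variable [Fintype F]

theorem emb_one_zero (hF : Fintype.card F = q ^ 2) {n : ℕ} (g : SU n F q) (v : Fin (n + 1) → F) :
    (mat (emb hF 1 (by omega : 1 + n ≤ n + 1) g) *ᵥ v) 0 = v 0 :=
  emb_mulVec_lt hF _ _ _ (Or.inl (by simp))

theorem emb_one_succ (hF : Fintype.card F = q ^ 2) {n : ℕ} (g : SU n F q) (v : Fin (n + 1) → F)
    (i : Fin n) :
    (mat (emb hF 1 (by omega : 1 + n ≤ n + 1) g) *ᵥ v) i.succ = (mat g *ᵥ fun j => v j.succ) i := by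
  change (extM (sh 1 (by omega) : Fin n → Fin (n + 1)) (mat g) *ᵥ v) i.succ = _
  rw [extM_sh_one, Cfsg.Agent.LieClassical.GUOrder.ext1_mulVec_succ]

theorem emb_one_mulVec (hF : Fintype.card F = q ^ 2) {n : ℕ} (g : SU n F q)
    (v : Fin (n + 1) → F) :
    mat (emb hF 1 (by omega : 1 + n ≤ n + 1) g) *ᵥ v =
      Fin.cons (v 0) (mat g *ᵥ fun j => v j.succ) := by
  funext x
  refine Fin.cases ?_ (fun i => ?_) x
  · rw [emb_one_zero, Fin.cons_zero]
  · rw [emb_one_succ, Fin.cons_succ]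

theorem emb_one_e0 (hF : Fintype.card F = q ^ 2) {n : ℕ} (g : SU n F q) :
    emb hF 1 (by omega : 1 + n ≤ n + 1) g • e0 n F q = e0 n F q := by
  apply Pt.ext'
  rw [smul_val, emb_one_mulVec, e0_val]
  funext x
  refine Fin.cases ?_ (fun i => ?_) x
  · rw [Fin.cons_zero]
  · have : (fun j : Fin n => (Pi.single 0 1 : Fin (n + 1) → F) j.succ) = 0 := by
      funext j
      rw [Pi.single_eq_of_ne (Fin.succ_ne_zero j), Pi.zero_apply]
    rw [Fin.cons_succ, this, Matrix.mulVec_zero, Pi.zero_apply,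
      Pi.single_eq_of_ne (Fin.succ_ne_zero i)]

/-- The stabiliser of the first basis vector. -/
theorem exists_emb_of_fix (hF : Fintype.card F = q ^ 2) {n : ℕ} (g : SU (n + 1) F q)
    (hg : g • e0 n F q = e0 n F q) :
    ∃ k : SU n F q, emb hF 1 (by omega : 1 + n ≤ n + 1) k = g := by
  have hfix : mat g *ᵥ (Pi.single 0 1) = Pi.single 0 1 := congrArg Pt.val hg
  have h1 := Cfsg.Agent.LieClassical.GUOrder.eq_ext1_of_fix hF (mat g) (mat_isom g) hfix
  refine ⟨mk ((mat g).submatrix Fin.succ Fin.succ) ?_ ?_, ?_⟩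
  · have h2 := mat_det g
    rw [h1, Cfsg.Agent.LieClassical.GUOrder.det_ext1, one_mul] at h2
    exact h2
  · apply Cfsg.Agent.LieClassical.GUOrder.submatrix_isom hF
    rw [← h1]
    exact mat_isom g
  · apply mat_inj
    change extM (sh 1 (by omega) : Fin n → Fin (n + 1)) _ = _
    rw [extM_sh_one, mat_mk]
    exact h1.symm

/-- `SU n` is transitive on vectors of a given nonzero norm. -/
theorem exists_su_map (hF : Fintype.card F = q ^ 2) {n : ℕ} {u v : Fin (n + 2) → F}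
    (huv : hermForm (n + 2) F q u u = hermForm (n + 2) F q v v)
    (hu : hermForm (n + 2) F q u u ≠ 0) : ∃ g : SU (n + 2) F q, mat g *ᵥ u = v := by
  obtain ⟨μ, hμ0, hμ⟩ := exists_norm_eq_ne hF (herm_self_pow hF u) hu
  have hscale : ∀ w : Fin (n + 2) → F, hermForm (n + 2) F q w w = hermForm (n + 2) F q u u →
      hermForm (n + 2) F q (μ⁻¹ • w) (μ⁻¹ • w) = 1 := by
    intro w hw
    rw [herm_smul_left, herm_smul_right, hw, ← hμ, inv_pow]
    have : μ ^ q ≠ 0 := pow_ne_zero _ hμ0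
    field_simp
  have hu1 := hscale u rfl
  have hv1 := hscale v huv.symm
  obtain ⟨g, hg⟩ := Cfsg.Agent.LieClassical.GUOrder.exists_gu_map hF hu1 hv1
  obtain ⟨g₀, hg₀⟩ := Cfsg.Agent.LieClassical.GUOrder.exists_gu_map hF (e0 (n + 1) F q).norm hu1
  set G : Matrix (Fin (n + 2)) (Fin (n + 2)) F := ((g : GL (Fin (n + 2)) F) :
    Matrix (Fin (n + 2)) (Fin (n + 2)) F) with hG
  set G₀ : Matrix (Fin (n + 2)) (Fin (n + 2)) F := ((g₀ : GL (Fin (n + 2)) F) :
    Matrix (Fin (n + 2)) (Fin (n + 2)) F)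
    with hG₀
  set G₁ : Matrix (Fin (n + 2)) (Fin (n + 2)) F :=
    (((g₀⁻¹ : GU (n + 2) F q) : GL (Fin (n + 2)) F) :
    Matrix (Fin (n + 2)) (Fin (n + 2)) F) with hG₁
  have h01 : G₁ * G₀ = 1 := by
    rw [hG₁, hG₀, ← Units.val_mul, ← Subgroup.coe_mul, inv_mul_cancel]
    rfl
  have h10 : G₀ * G₁ = 1 := by
    rw [hG₁, hG₀, ← Units.val_mul, ← Subgroup.coe_mul, mul_inv_cancel]
    rfl
  have hGiso : ∀ x y, hermForm (n + 2) F q (G *ᵥ x) (G *ᵥ y) = hermForm (n + 2) F q x y := g.2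
  have hG₀iso : ∀ x y, hermForm (n + 2) F q (G₀ *ᵥ x) (G₀ *ᵥ y) = hermForm (n + 2) F q x y := g₀.2
  have hG₁iso : ∀ x y, hermForm (n + 2) F q (G₁ *ᵥ x) (G₁ *ᵥ y) = hermForm (n + 2) F q x y :=
    (g₀⁻¹).2
  set d := G.det with hd
  have hd0 : d ≠ 0 := Cfsg.Agent.LieClassical.GUOrder.det_ne_zero_of_isom hF G hGiso
  have hdn : d ^ (q + 1) = 1 := Cfsg.Agent.LieClassical.GUOrder.det_mul_frob_det hF G hGiso
  set D : Matrix (Fin (n + 2)) (Fin (n + 2)) F := Cfsg.Agent.LieClassical.GUOrder.ext1 1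
    (Cfsg.Agent.LieClassical.GUOrder.ext1 d⁻¹ (1 : Matrix (Fin n) (Fin n) F)) with hD
  have hDdet : D.det = d⁻¹ := by
    rw [hD, Cfsg.Agent.LieClassical.GUOrder.det_ext1, Cfsg.Agent.LieClassical.GUOrder.det_ext1,
      Matrix.det_one, one_mul, mul_one]
  have hDiso : ∀ x y, hermForm (n + 2) F q (D *ᵥ x) (D *ᵥ y) = hermForm (n + 2) F q x y := by
    rw [hD]
    apply Cfsg.Agent.LieClassical.GUOrder.ext1_isom 1 (one_pow _)
    apply Cfsg.Agent.LieClassical.GUOrder.ext1_isom _ (by rw [inv_pow, hdn, inv_one])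
    intro x y
    rw [Matrix.one_mulVec, Matrix.one_mulVec]
  have hDe : D *ᵥ (e0 (n + 1) F q).val = (e0 (n + 1) F q).val := by
    funext x
    refine Fin.cases ?_ (fun i => ?_) x
    · rw [hD, Cfsg.Agent.LieClassical.GUOrder.ext1_mulVec_zero, one_mul]
    · rw [hD, Cfsg.Agent.LieClassical.GUOrder.ext1_mulVec_succ, e0_val]
      have : (fun j : Fin (n + 1) => (Pi.single 0 1 : Fin (n + 1 + 1) → F) j.succ) = 0 := by
        funext j
        rw [Pi.single_eq_of_ne (Fin.succ_ne_zero j), Pi.zero_apply]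
      rw [this, Matrix.mulVec_zero, Pi.zero_apply, Pi.single_eq_of_ne (Fin.succ_ne_zero i)]
  refine ⟨mk (G * (G₀ * D * G₁)) ?_ ?_, ?_⟩
  · have h2 : G₀.det * G₁.det = 1 := by rw [← Matrix.det_mul, h10, Matrix.det_one]
    rw [Matrix.det_mul, Matrix.det_mul, Matrix.det_mul, hDdet, ← hd]
    calc d * (G₀.det * d⁻¹ * G₁.det) = (d * d⁻¹) * (G₀.det * G₁.det) := by ring
      _ = 1 := by rw [h2, mul_inv_cancel₀ hd0, one_mul]
  · intro x y
    simp only [← Matrix.mulVec_mulVec]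
    rw [hGiso, hG₀iso, hDiso, hG₁iso]
  · rw [mat_mk]
    have h3 : G₁ *ᵥ (μ⁻¹ • u) = (e0 (n + 1) F q).val := by
      rw [← hg₀, Matrix.mulVec_mulVec]
      change (G₁ * G₀) *ᵥ _ = _
      rw [h01, Matrix.one_mulVec]
    have h4 : (G * (G₀ * D * G₁)) *ᵥ (μ⁻¹ • u) = μ⁻¹ • v := by
      simp only [← Matrix.mulVec_mulVec]
      rw [h3, hDe]
      have h5 : G₀ *ᵥ (e0 (n + 1) F q).val = μ⁻¹ • u := hg₀
      rw [h5]
      exact hg
    rw [Matrix.mulVec_smul] at h4
    exact smul_right_injective _ (inv_ne_zero hμ0) h4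

theorem exists_su_smul (hF : Fintype.card F = q ^ 2) {n : ℕ} (u v : Pt (n + 2) F q) :
    ∃ g : SU (n + 2) F q, g • u = v := by
  obtain ⟨g, hg⟩ := exists_su_map hF (u := u.val) (v := v.val) (by rw [u.norm, v.norm])
    (by rw [u.norm]; exact one_ne_zero)
  exact ⟨g, Pt.ext' hg⟩

end Cfsg.Agent.Phan
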