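import Cfsg.Agent.Phan.ThreeFourChk0
import Cfsg.Agent.Phan.ThreeFourChk1
import Cfsg.Agent.Phan.ThreeFourChk2

set_option autoImplicit false
set_option maxRecDepth 100000

namespace Cfsg.Agent.Phan.ThreeFourAll

open Cfsg.Agent.SporadicRecognition.CosetCert Cfsg.Agent.Phan.ThreeFourData

theorem part : Part C 0 C.N 4941 := ((Cfsg.Agent.Phan.ThreeFourChk0.all).append C Cfsg.Agent.Phan.ThreeFourChk1.all).append C Cfsg.Agent.Phan.ThreeFourChk2.all

end Cfsg.Agent.Phan.ThreeFourAll
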