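import Cfsg.Agent.Phan.ThreeCardFour
import Cfsg.Agent.Phan.ThreeCardThree

/-!
# Phan's theorem for `SU 5`, `q = 3`, over the field `F9`

`exists_hom` : a Phan system of rank five over `F9` such that no element of order three of `⟨φ k, φ (k+1), φ (k+2)⟩`
(`k = 0, 1`) centralises `φ k, φ (k+1), φ (k+2)` extends to `SU 5`.
-/

set_option autoImplicit false

namespace Cfsg.Agent.Phan.ThreeHom

open Matrix Cfsg Cfsg.Agent.Phan Cfsg.Agent.Phan.ThreeModel Cfsg.Agent.Phan.ThreeRel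
open Cfsg.Agent.Phan.ThreeWord Cfsg.Agent.Phan.ThreeNine
open Cfsg.Agent.ChevalleyStructure.NineField
open Cfsg.Agent.SporadicRecognition.CosetCert Cfsg.Agent.SporadicRecognition.CosetCertHyp

variable {H : Type*} [Group H]

/-- no central element of order three in `⟨φ 0, φ 1, φ 2⟩` -/
def Hz {F : Type*} [Field F] (φ : ℕ → (SU 2 F 3 →* H)) : Prop :=
  ∀ x : H, x ∈ Subgroup.closure {y : H | ∃ j, j < 3 ∧ ∃ a, φ j a = y} →
    (∀ j, j < 3 → ∀ a, φ j a * x = x * φ j a) → x ^ 3 = 1 → x = 1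

def E2 (k : ℕ) : SU 2 F9 3 →* SU 5 F9 3 := if hk : k + 2 ≤ 5 then emb hF9 k hk else 1

def E3 (k : ℕ) : SU 3 F9 3 →* SU 5 F9 3 := if hk : k + 3 ≤ 5 then emb hF9 k hk else 1

theorem E2_eq {k : ℕ} (hk : k + 2 ≤ 5) : E2 k = emb hF9 k hk := dif_pos hk

theorem E3_eq {k : ℕ} (hk : k + 3 ≤ 5) : E3 k = emb hF9 k hk := dif_pos hk

theorem sysE : System hF9 5 E2 E3 := by
  refine ⟨?_, ?_, ?_⟩
  · intro k hk a
    rw [E3_eq hk, E2_eq (by omega), emb_emb]
    exact emb_congr hF9 _ _ (by omega) a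
  · intro k hk a
    rw [E3_eq hk, E2_eq (by omega), emb_emb]
  · intro i j hij hj a b
    rw [E2_eq (by omega), E2_eq (by omega)]
    exact emb_comm hF9 _ _ (Or.inl hij) a b

theorem System.prod {n : ℕ} {H' : Type*} [Group H'] {φ : ℕ → (SU 2 F9 3 →* H)}
    {g : ℕ → (SU 3 F9 3 →* H)} {φ' : ℕ → (SU 2 F9 3 →* H')} {g' : ℕ → (SU 3 F9 3 →* H')}
    (h : System hF9 n φ g) (h' : System hF9 n φ' g') :
    System hF9 n (fun k => (φ k).prod (φ' k)) (fun k => (g k).prod (g' k)) :=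
  ⟨fun k hk a => Prod.ext (h.left k hk a) (h'.left k hk a),
    fun k hk a => Prod.ext (h.right k hk a) (h'.right k hk a),
    fun i j hij hj a b => Prod.ext (h.comm i j hij hj a b) (h'.comm i j hij hj a b)⟩

theorem ev_prod {H' : Type*} [Group H'] (φ : ℕ → (SU 2 F9 3 →* H)) (φ' : ℕ → (SU 2 F9 3 →* H'))
    (K : ℕ) (w : List ℕ) :
    ev (L (fun k => (φ k).prod (φ' k)) K) w = (ev (L φ K) w, ev (L φ' K) w) := by
  induction w with
  | nil => rfl
  | cons x w ih =>
    rw [ev_cons, ev_cons, ev_cons, ih]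
    have : L (fun k => (φ k).prod (φ' k)) K x = (L φ K x, L φ' K x) := by
      unfold L
      split <;> rfl
    rw [this]
    rfl

theorem center_four {y : SU 4 F9 3} (hy : y ∈ Subgroup.center (SU 4 F9 3)) (h3 : y ^ 3 = 1) :
    y = 1 := by
  have h1 := Cfsg.Agent.S0280.card_center hF9 4 (by norm_num)
  have h2 : (⟨y, hy⟩ : Subgroup.center (SU 4 F9 3)) ^ Nat.card (Subgroup.center (SU 4 F9 3)) = 1 :=
    pow_card_eq_one'
  rw [h1] at h2
  have h4 : y ^ 4 = 1 := by
    have := congrArg Subtype.val h2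
    simpa using this
  calc y = y ^ 4 * (y ^ 3)⁻¹ := by group
    _ = 1 := by rw [h4, h3, inv_one, one_mul]

theorem hzE {k : ℕ} (hk : k ≤ 1) : Hz (fun j => E2 (k + j)) := by
  intro x hx hc h3
  have hk4 : k + 4 ≤ 5 := by omega
  have e : ∀ j (hj : j < 3) a, E2 (k + j) a = emb hF9 k hk4 (emb hF9 j (by omega : j + 2 ≤ 4) a) := by
    intro j hj a
    rw [E2_eq (by omega), emb_emb]
  have hx' : x ∈ (emb hF9 k hk4 : SU 4 F9 3 →* SU 5 F9 3).range := by
    refine (Subgroup.closure_le _).2 ?_ hx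
    rintro _ ⟨j, hj, a, rfl⟩
    exact ⟨_, (e j hj a).symm⟩
  obtain ⟨y, rfl⟩ := hx'
  have hinj := emb_injective hF9 k hk4
  have hy3 : y ^ 3 = 1 := hinj (by rw [map_pow, map_one]; exact h3)
  have hcen : y ∈ Subgroup.center (SU 4 F9 3) := by
    have h1 : ∀ z ∈ Subgroup.closure {z : SU (2 + 2) F9 3 | ∃ (j : ℕ) (h : j + 2 ≤ 2 + 2)
        (x : SU 2 F9 3), emb hF9 j h x = z}, Commute z y := by
      intro z hz
      induction hz using Subgroup.closure_induction with
      | mem z hz =>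
        obtain ⟨j, hj, a, rfl⟩ := hz
        have h2 := hc j (by omega) a
        rw [e j (by omega) a, ← map_mul, ← map_mul] at h2
        exact hinj h2
      | one => exact Commute.one_left _
      | mul b c _ _ hb hc => exact hb.mul_left hc
      | inv b _ hb => exact hb.inv_left
    rw [closure_emb_eq_top hF9 le_rfl 2] at h1
    rw [Subgroup.mem_center_iff]
    intro z
    exact h1 z trivial
  rw [center_four hcen hy3, map_one]

theorem card_SU3 : Nat.card (SU 3 F9 3) = 6048 := by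
  have h := Cfsg.Agent.S0278.result (F := F9) (q := 3) hF9 3 (by norm_num)
  norm_num [Finset.prod_range_succ, Nat.even_iff] at h
  omega

theorem card_SU5 : Nat.card (SU 5 F9 3) = 258190571520 := by
  have h := Cfsg.Agent.S0278.result (F := F9) (q := 3) hF9 5 (by norm_num)
  norm_num [Finset.prod_range_succ, Nat.even_iff] at h
  omega

theorem D_shift (φ : ℕ → (SU 2 F9 3 →* H)) (k a b : ℕ) :
    D (fun j => φ (k + j)) a b = D φ (k + a) (k + b) := by
  unfold D
  congr 1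
  ext y
  constructor
  · rintro ⟨j, h1, h2, x, rfl⟩
    exact ⟨k + j, by omega, by omega, x, rfl⟩
  · rintro ⟨j, h1, h2, x, rfl⟩
    refine ⟨j - k, by omega, by omega, x, ?_⟩
    have : k + (j - k) = j := by omega
    change φ (k + (j - k)) x = φ j x
    rw [this]

/-- the order of the group generated by a Phan system in which the words `w1`, `w2` are trivial -/
theorem card_le {φ : ℕ → (SU 2 F9 3 →* H)} {g : ℕ → (SU 3 F9 3 →* H)} (h : System hF9 5 φ g)
    (h01 : ev (L φ 12) w1 = 1) (h02 : ev (L φ 12) w2 = 1)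
    (h11 : ev (L (fun j => φ (1 + j)) 12) w1 = 1) (h12 : ev (L (fun j => φ (1 + j)) 12) w2 = 1) :
    Finite (D φ 0 4) ∧ Nat.card (D φ 0 4) ≤ 258190571520 := by
  have hs : System hF9 4 (fun j => φ (1 + j)) (fun j => g (1 + j)) := shift (k := 1) (n := 4) h
  have hfin3 : Finite (SU 3 F9 3) := Nat.finite_of_card_ne_zero (by rw [card_SU3]; norm_num)
  have hr : Nat.card (g 2).range ≤ 6048 := by
    rw [← card_SU3]
    exact Nat.card_le_card_of_surjective _ (g 2).rangeRestrict_surjective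
  have hD2 : D φ 2 4 ≤ (g 2).range := by
    rw [D, Subgroup.closure_le]
    rintro _ ⟨j, h1, h2, a, rfl⟩
    have hj : j = 2 ∨ j = 3 := by omega
    rcases hj with rfl | rfl
    · exact ⟨_, h.left 2 (by norm_num) a⟩
    · exact ⟨_, h.right 2 (by norm_num) a⟩
  have hfr : Finite (g 2).range := Finite.of_surjective _ (g 2).rangeRestrict_surjective
  obtain ⟨f2, c2⟩ := card_le_of_le hD2
  have e1 : D (fun j => φ (1 + j)) 1 3 = D φ 2 4 := D_shift φ 1 1 3
  have e2 : D (fun j => φ (1 + j)) 0 3 = D φ 1 4 := D_shift φ 1 0 3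
  have f2' : Finite (D (fun j => φ (1 + j)) 1 3) := by rw [e1]; exact f2
  have c2' : Nat.card (D (fun j => φ (1 + j)) 1 3) ≤ 6048 := by rw [e1]; exact c2.trans hr
  obtain ⟨f3, c3⟩ := step_torus (n := 4) (m := 3) (by norm_num) (by norm_num) hs
  obtain ⟨f4, c4⟩ := ThreeCardThree.card_three hs h11 h12
  rw [e2] at f4 c4
  obtain ⟨f5, c5⟩ := step_torus (n := 5) (m := 4) (by norm_num) (by norm_num) h
  obtain ⟨f6, c6⟩ := ThreeCardFour.card_four h h01 h02
  refine ⟨f6, ?_⟩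
  omega

/-- **Phan's theorem for `SU 5`, `q = 3`** -/
theorem exists_hom {φ : ℕ → (SU 2 F9 3 →* H)} {g : ℕ → (SU 3 F9 3 →* H)} (h : System hF9 5 φ g)
    (hz0 : Hz φ) (hz1 : Hz fun j => φ (1 + j)) :
    ∃ Φ : SU 5 F9 3 →* H, ∀ (k : ℕ) (hk : k + 3 ≤ 5) (x : SU 3 F9 3), Φ (emb hF9 k hk x) = g k x := by
  have hP := System.prod h sysE
  set φ' : ℕ → (SU 2 F9 3 →* H × SU 5 F9 3) := fun k => (φ k).prod (E2 k) with hφ'
  set g' : ℕ → (SU 3 F9 3 →* H × SU 5 F9 3) := fun k => (g k).prod (E3 k) with hg'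
  have hE0 : Hz E2 := by
    have := hzE (k := 0) (by norm_num)
    simpa using this
  have hE1 : Hz (fun j => E2 (1 + j)) := hzE (k := 1) le_rfl
  obtain ⟨a1, a2⟩ := ev_w (restrict (by norm_num : 4 ≤ 5) h) hz0
  obtain ⟨b1, b2⟩ := ev_w (restrict (by norm_num : 4 ≤ 5) sysE) hE0
  obtain ⟨c1, c2⟩ := ev_w (shift (k := 1) (n := 4) h) hz1
  obtain ⟨d1, d2⟩ := ev_w (shift (k := 1) (n := 4) sysE) hE1
  obtain ⟨hfin, hcard⟩ := card_le hP
    (by rw [ev_prod, a1, b1]; rfl) (by rw [ev_prod, a2, b2]; rfl)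
    (by
      have := ev_prod (fun j => φ (1 + j)) (fun j => E2 (1 + j)) 12 w1
      rw [c1, d1] at this
      exact this)
    (by
      have := ev_prod (fun j => φ (1 + j)) (fun j => E2 (1 + j)) 12 w2
      rw [c2, d2] at this
      exact this)
  let π : D φ' 0 4 →* SU 5 F9 3 := (MonoidHom.snd H (SU 5 F9 3)).comp (D φ' 0 4).subtype
  have hsurj : Function.Surjective π := by
    rw [← MonoidHom.range_eq_top, eq_top_iff, ← closure_emb_eq_top hF9 le_rfl 3,
      Subgroup.closure_le]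
    rintro _ ⟨j, hj, x, rfl⟩
    refine ⟨⟨φ' j x, mem_D (Nat.zero_le _) (by omega) x⟩, ?_⟩
    change E2 j x = _
    rw [E2_eq (by omega)]
  have hfin5 : Finite (SU 5 F9 3) := Nat.finite_of_card_ne_zero (by rw [card_SU5]; norm_num)
  have hbij : Function.Bijective π := by
    refine (Nat.bijective_iff_surjective_and_card π).2 ⟨hsurj, ?_⟩
    refine le_antisymm ?_ (Nat.card_le_card_of_surjective π hsurj)
    rw [card_SU5]
    exact hcard
  let e : D φ' 0 4 ≃* SU 5 F9 3 := MulEquiv.ofBijective π hbij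
  refine ⟨(MonoidHom.fst H (SU 5 F9 3)).comp ((D φ' 0 4).subtype.comp e.symm.toMonoidHom), ?_⟩
  intro k hk x
  have hmem : g' k x ∈ D φ' 0 4 := by
    have hx : x ∈ Subgroup.closure {y : SU (1 + 2) F9 3 | ∃ (j : ℕ) (h : j + 2 ≤ 1 + 2)
        (x : SU 2 F9 3), emb hF9 j h x = y} := by rw [closure_emb_eq_top hF9 le_rfl 1]; trivial
    have h1 : Subgroup.closure {y : SU (1 + 2) F9 3 | ∃ (j : ℕ) (h : j + 2 ≤ 1 + 2)
        (x : SU 2 F9 3), emb hF9 j h x = y} ≤ (D φ' 0 4).comap (g' k) := by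
      rw [Subgroup.closure_le]
      rintro _ ⟨j, hj, a, rfl⟩
      change g' k _ ∈ D φ' 0 4
      have hj' : j = 0 ∨ j = 1 := by omega
      rcases hj' with rfl | rfl
      · rw [hP.left k hk a]
        exact mem_D (Nat.zero_le _) (by omega) a
      · rw [hP.right k hk a]
        exact mem_D (Nat.zero_le _) (by omega) a
    exact h1 hx
  have h2 : e ⟨g' k x, hmem⟩ = emb hF9 k hk x := by
    change E3 k x = _
    rw [E3_eq hk]
  have h3 : e.symm (emb hF9 k hk x) = ⟨g' k x, hmem⟩ := by rw [← h2, e.symm_apply_apply]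
  change (e.symm (emb hF9 k hk x)).val.1 = g k x
  rw [h3]
  rfl

end Cfsg.Agent.Phan.ThreeHom
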