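import Cfsg.Agent.Phan.Main
import Cfsg.Agent.ChevalleyStructure.NineField
import Cfsg.Agent.SporadicRecognition.CosetCertHyp
import Cfsg.Agent.S0280

/-!
# Phan systems over the field with nine elements: letters and relators

`tt`, `cc` generate `SU 2 F9 3`; the letters `4 k, 4 k + 1, 4 k + 2, 4 k + 3` are the images of
`tt, tt⁻¹, cc, cc⁻¹` under the homomorphism `φ k` of a Phan system.
-/

set_option autoImplicit false

namespace Cfsg.Agent.Phan.ThreeModel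

open Matrix Cfsg Cfsg.Agent.Phan
open Cfsg.Agent.ChevalleyStructure.NineField
open Cfsg.Agent.SporadicRecognition.CosetCert Cfsg.Agent.SporadicRecognition.CosetCertHyp

theorem hF9 : Fintype.card F9 = 3 ^ 2 := by rw [F9.card_F9]; norm_num

/-- an element of order four of `SU 2` -/
def tt : SU 2 F9 3 := su2 hF9 ⟨0, 1⟩ 0 (by decide +kernel)

/-- an element of order three of `SU 2` -/
def cc : SU 2 F9 3 := su2 hF9 ⟨1, 1⟩ ⟨2, 1⟩ (by decide +kernel)

/-- the four letters -/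
def lw : ℕ → SU 2 F9 3
  | 0 => tt
  | 1 => tt⁻¹
  | 2 => cc
  | 3 => cc⁻¹
  | _ => 1

/-- matrices of the letters -/
def lm : ℕ → F9 × F9 × F9 × F9
  | 0 => (⟨0, 1⟩, 0, 0, ⟨0, 2⟩)
  | 1 => (⟨0, 2⟩, 0, 0, ⟨0, 1⟩)
  | 2 => (⟨1, 1⟩, ⟨1, 1⟩, ⟨2, 1⟩, ⟨1, 2⟩)
  | 3 => (⟨1, 2⟩, ⟨2, 2⟩, ⟨1, 2⟩, ⟨1, 1⟩)
  | _ => (1, 0, 0, 1)

theorem mat_lw (y : ℕ) : mat (lw y) = !![(lm y).1, (lm y).2.1; (lm y).2.2.1, (lm y).2.2.2] := by
  have key : ∀ (x : SU 2 F9 3) (M : Matrix (Fin 2) (Fin 2) F9), mat x * M = 1 → mat x⁻¹ = M := by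
    intro x M h
    have h1 := mat_inv_mul x
    calc mat x⁻¹ = mat x⁻¹ * (mat x * M) := by rw [h, Matrix.mul_one]
      _ = M := by rw [← Matrix.mul_assoc, h1, Matrix.one_mul]
  match y with
  | 0 => 
    change mat tt = _
    rw [tt, mat_su2]
    decide +kernel
  | 1 =>
    apply key
    rw [tt, mat_su2]
    decide +kernel
  | 2 =>
    change mat cc = _
    rw [cc, mat_su2]
    decide +kernel
  | 3 =>
    apply key
    rw [cc, mat_su2]
    decide +kernel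
  | (n + 4) =>
    change mat (1 : SU 2 F9 3) = _
    rw [mat_one]
    change (1 : Matrix (Fin 2) (Fin 2) F9) = !![(1 : F9), 0; 0, 1]
    decide +kernel

/-- action on a pair -/
def act2 (y : ℕ) (p : F9 × F9) : F9 × F9 :=
  ((lm y).1 * p.1 + (lm y).2.1 * p.2, (lm y).2.2.1 * p.1 + (lm y).2.2.2 * p.2)

theorem mat_lw_mulVec (y : ℕ) (p : F9 × F9) :
    mat (lw y) *ᵥ ![p.1, p.2] = ![(act2 y p).1, (act2 y p).2] := by
  rw [mat_lw]
  funext i
  fin_cases i <;> simp [Matrix.mulVec, dotProduct, Fin.sum_univ_two, act2]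

/-! ### `SU 3` -/

/-- the eight letters of `SU 3` -/
def s3 (y : ℕ) : SU 3 F9 3 :=
  if y < 4 then emb hF9 0 (by omega : 0 + 2 ≤ 3) (lw y) else emb hF9 1 (by omega : 1 + 2 ≤ 3) (lw (y - 4))

/-- action on a triple -/
def act3 (y : ℕ) (p : F9 × F9 × F9) : F9 × F9 × F9 :=
  if y < 4 then ((act2 y (p.1, p.2.1)).1, (act2 y (p.1, p.2.1)).2, p.2.2)
  else (p.1, (act2 (y - 4) p.2).1, (act2 (y - 4) p.2).2)

theorem mat_s3_mulVec (y : ℕ) (p : F9 × F9 × F9) :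
    mat (s3 y) *ᵥ ![p.1, p.2.1, p.2.2] = ![(act3 y p).1, (act3 y p).2.1, (act3 y p).2.2] := by
  unfold s3 act3
  split
  · have h1 : (![p.1, p.2.1, p.2.2] : Fin 3 → F9) ∘ (sh 0 (by omega : 0 + 2 ≤ 3)) =
        ![p.1, p.2.1] := by
      funext i; fin_cases i <;> rfl
    have h0 := emb_mulVec_sh hF9 (by omega : 0 + 2 ≤ 3) (lw y) ![p.1, p.2.1, p.2.2] 0
    have h2 := emb_mulVec_sh hF9 (by omega : 0 + 2 ≤ 3) (lw y) ![p.1, p.2.1, p.2.2] 1
    have h3 := emb_mulVec_lt hF9 (by omega : 0 + 2 ≤ 3) (lw y) ![p.1, p.2.1, p.2.2]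
      (x := 2) (Or.inr (by decide))
    rw [h1, mat_lw_mulVec y (p.1, p.2.1)] at h0 h2
    funext i
    fin_cases i
    · exact h0
    · exact h2
    · exact h3
  · have h1 : (![p.1, p.2.1, p.2.2] : Fin 3 → F9) ∘ (sh 1 (by omega : 1 + 2 ≤ 3)) =
        ![p.2.1, p.2.2] := by
      funext i; fin_cases i <;> rfl
    have h0 := emb_mulVec_sh hF9 (by omega : 1 + 2 ≤ 3) (lw (y - 4)) ![p.1, p.2.1, p.2.2] 0
    have h2 := emb_mulVec_sh hF9 (by omega : 1 + 2 ≤ 3) (lw (y - 4)) ![p.1, p.2.1, p.2.2] 1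
    have h3 := emb_mulVec_lt hF9 (by omega : 1 + 2 ≤ 3) (lw (y - 4)) ![p.1, p.2.1, p.2.2]
      (x := 0) (Or.inl (by decide))
    rw [h1, mat_lw_mulVec (y - 4) p.2] at h0 h2
    funext i
    fin_cases i
    · exact h3
    · exact h0
    · exact h2

theorem mat_ev_mulVec (w : List ℕ) (p : F9 × F9 × F9) :
    mat (ev s3 w) *ᵥ ![p.1, p.2.1, p.2.2] =
      ![(w.foldr act3 p).1, (w.foldr act3 p).2.1, (w.foldr act3 p).2.2] := by
  induction w with
  | nil => rw [ev_nil, mat_one, Matrix.one_mulVec]; rfl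
  | cons x w ih =>
    rw [ev_cons, mat_mul, ← Matrix.mulVec_mulVec, ih, mat_s3_mulVec x (w.foldr act3 p)]
    rfl

/-- the word acts trivially -/
def one3 (w : List ℕ) : Bool :=
  (w.foldr act3 (1, 0, 0) == (1, 0, 0)) && (w.foldr act3 (0, 1, 0) == (0, 1, 0)) &&
    (w.foldr act3 (0, 0, 1) == (0, 0, 1))

theorem ev_eq_one_of_one3 {w : List ℕ} (h : one3 w = true) : ev s3 w = 1 := by
  unfold one3 at h
  rw [Bool.and_eq_true, Bool.and_eq_true, beq_iff_eq, beq_iff_eq, beq_iff_eq] at h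
  obtain ⟨⟨h0, h1⟩, h2⟩ := h
  apply mat_inj
  rw [mat_one]
  have e0 := mat_ev_mulVec w (1, 0, 0)
  have e1 := mat_ev_mulVec w (0, 1, 0)
  have e2 := mat_ev_mulVec w (0, 0, 1)
  rw [h0] at e0
  rw [h1] at e1
  rw [h2] at e2
  refine Matrix.ext fun i j => ?_
  have c0 : ∀ M : Matrix (Fin 3) (Fin 3) F9, (M *ᵥ ![(1 : F9), 0, 0]) i = M i 0 := by
    intro M; simp [Matrix.mulVec, dotProduct, Fin.sum_univ_three]
  have c1 : ∀ M : Matrix (Fin 3) (Fin 3) F9, (M *ᵥ ![(0 : F9), 1, 0]) i = M i 1 := by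
    intro M; simp [Matrix.mulVec, dotProduct, Fin.sum_univ_three]
  have c2 : ∀ M : Matrix (Fin 3) (Fin 3) F9, (M *ᵥ ![(0 : F9), 0, 1]) i = M i 2 := by
    intro M; simp [Matrix.mulVec, dotProduct, Fin.sum_univ_three]
  fin_cases j
  · have := congrFun e0 i
    rw [c0] at this
    change (mat (ev s3 w)) i 0 = _
    rw [this]
    fin_cases i <;> rfl
  · have := congrFun e1 i
    rw [c1] at this
    change (mat (ev s3 w)) i 1 = _
    rw [this]
    fin_cases i <;> rfl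
  · have := congrFun e2 i
    rw [c2] at this
    change (mat (ev s3 w)) i 2 = _
    rw [this]
    fin_cases i <;> rfl

end Cfsg.Agent.Phan.ThreeModel
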