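import Cfsg.Agent.Phan.ThreeWord

/-!
# Phan systems over `F9`: the subgroups `D φ k m = ⟨φ j : k ≤ j < m⟩` and the torus step
-/

set_option autoImplicit false

namespace Cfsg.Agent.Phan.ThreeNine

open Matrix Cfsg Cfsg.Agent.Phan Cfsg.Agent.Phan.ThreeModel Cfsg.Agent.Phan.ThreeRel
open Cfsg.Agent.Phan.ThreeWord
open Cfsg.Agent.ChevalleyStructure.NineField
open Cfsg.Agent.SporadicRecognition.CosetCert Cfsg.Agent.SporadicRecognition.CosetCertHyp

variable {H : Type*} [Group H]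

/-- no central element of order three in `⟨φ k, φ (k+1), φ (k+2)⟩` -/
def Hz (φ : ℕ → (SU 2 F9 3 →* H)) (k : ℕ) : Prop :=
  ∀ x : H, x ∈ Subgroup.closure {y : H | ∃ j, j < 3 ∧ ∃ a, φ (k + j) a = y} →
    (∀ j, j < 3 → ∀ a, φ (k + j) a * x = x * φ (k + j) a) → x ^ 3 = 1 → x = 1

theorem shift {n k : ℕ} {φ : ℕ → (SU 2 F9 3 →* H)} {g : ℕ → (SU 3 F9 3 →* H)}
    (h : System hF9 (k + n) φ g) : System hF9 n (fun j => φ (k + j)) (fun j => g (k + j)) :=
  ⟨fun j hj a => h.left (k + j) (by omega) a, fun j hj a => h.right (k + j) (by omega) a,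
    fun i j hij hj a b => h.comm (k + i) (k + j) (by omega) (by omega) a b⟩

theorem restrict {n m : ℕ} (hm : m ≤ n) {φ : ℕ → (SU 2 F9 3 →* H)} {g : ℕ → (SU 3 F9 3 →* H)}
    (h : System hF9 n φ g) : System hF9 m φ g :=
  ⟨fun j hj a => h.left j (by omega) a, fun j hj a => h.right j (by omega) a,
    fun i j hij hj a b => h.comm i j (by omega) (by omega) a b⟩

/-! ### the torus element normalises the next groups -/

theorem conj_mem {n : ℕ} (hn : 3 ≤ n) {φ : ℕ → (SU 2 F9 3 →* H)} {g : ℕ → (SU 3 F9 3 →* H)}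
    (h : System hF9 n φ g) (a : SU 2 F9 3) : φ 0 tt * φ 1 a * (φ 0 tt)⁻¹ ∈ (φ 1).range := by
  have h' := restrict hn h
  have hL : ∀ z, z < 8 → L φ 8 z * L φ 8 (iv z) = 1 := fun z h => (L_iv φ (by norm_num) h).2
  have e0 : L φ 8 0 = φ 0 tt := rfl
  have e4 : L φ 8 4 = φ 1 tt := rfl
  have e6 : L φ 8 6 = φ 1 cc := rfl
  have e1 : L φ 8 1 = (L φ 8 0)⁻¹ := (inv_eq_of_mul_eq_one_right (hL 0 (by norm_num))).symm
  have e5 : L φ 8 5 = (L φ 8 4)⁻¹ := (inv_eq_of_mul_eq_one_right (hL 4 (by norm_num))).symm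
  have r1 := ev_eq_one_of_okr h' (K := 8) (by norm_num) (by norm_num) (r := [0, 4, 1, 5])
    (by decide +kernel)
  have r2 := ev_eq_one_of_okr h' (K := 8) (by norm_num) (by norm_num) (r := [0, 6, 1, 6, 5])
    (by decide +kernel)
  rw [ev_cons, ev_cons, ev_cons, ev_cons, ev_nil, mul_one, e1, e5, e0, e4] at r1
  rw [ev_cons, ev_cons, ev_cons, ev_cons, ev_cons, ev_nil, mul_one, e1, e5, e0, e4, e6] at r2
  have ha : a ∈ Subgroup.closure {tt, cc} := by rw [ThreeRel.closure_eq_top]; trivial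
  induction ha using Subgroup.closure_induction with
  | mem b hb =>
    rcases hb with rfl | hb
    · refine ⟨tt, ?_⟩
      have : φ 0 tt * φ 1 tt * (φ 0 tt)⁻¹ * (φ 1 tt)⁻¹ = 1 := by rw [← r1]; group
      exact (mul_inv_eq_one.mp this).symm
    · rw [Set.mem_singleton_iff] at hb
      subst hb
      refine ⟨tt * cc⁻¹, ?_⟩
      have : φ 0 tt * φ 1 cc * (φ 0 tt)⁻¹ * (φ 1 (tt * cc⁻¹))⁻¹ = 1 := by
        rw [← r2, map_mul, map_inv]; group
      exact (mul_inv_eq_one.mp this).symm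
  | one => rw [map_one, mul_one, mul_inv_cancel]; exact one_mem _
  | mul b c _ _ hb hc =>
    have : φ 0 tt * φ 1 (b * c) * (φ 0 tt)⁻¹ =
        φ 0 tt * φ 1 b * (φ 0 tt)⁻¹ * (φ 0 tt * φ 1 c * (φ 0 tt)⁻¹) := by rw [map_mul]; group
    rw [this]
    exact mul_mem hb hc
  | inv b _ hb =>
    have : φ 0 tt * φ 1 b⁻¹ * (φ 0 tt)⁻¹ = (φ 0 tt * φ 1 b * (φ 0 tt)⁻¹)⁻¹ := by
      rw [map_inv]; group
    rw [this]
    exact inv_mem hb

/-- the group generated by `φ j`, `k ≤ j < n - 1` -/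
def D (φ : ℕ → (SU 2 F9 3 →* H)) (k m : ℕ) : Subgroup H :=
  Subgroup.closure {y : H | ∃ j, k ≤ j ∧ j < m ∧ ∃ a, φ j a = y}

theorem mem_D {φ : ℕ → (SU 2 F9 3 →* H)} {k m j : ℕ} (h1 : k ≤ j) (h2 : j < m) (a : SU 2 F9 3) :
    φ j a ∈ D φ k m := Subgroup.subset_closure ⟨j, h1, h2, a, rfl⟩

theorem card_closure_insert_le {x : H} {N : Subgroup H} [Finite N] {r : ℕ} (hr : 0 < r)
    (hx : x ^ r = 1) (hN : ∀ y ∈ N, x * y * x⁻¹ ∈ N) :
    Finite (Subgroup.closure ({x} ∪ (N : Set H))) ∧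
      Nat.card (Subgroup.closure ({x} ∪ (N : Set H))) ≤ r * Nat.card N := by
  have hsmul : ∀ i : ℕ, ∀ y ∈ N, x ^ i * y * (x ^ i)⁻¹ ∈ N := by
    intro i
    induction i with
    | zero => intro y hy; simpa using hy
    | succ i ih =>
      intro y hy
      have : x ^ (i + 1) * y * (x ^ (i + 1))⁻¹ = x * (x ^ i * y * (x ^ i)⁻¹) * x⁻¹ := by
        rw [pow_succ']; group
      rw [this]
      exact hN _ (ih y hy)
  have hinv : x⁻¹ = x ^ (r - 1) := by
    rw [inv_eq_iff_mul_eq_one, ← pow_succ']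
    rwa [Nat.sub_add_cancel hr]
  -- every element is `y * x ^ i` with `y ∈ N`
  have hform : ∀ z ∈ Subgroup.closure ({x} ∪ (N : Set H)), ∃ i, i < r ∧ ∃ y ∈ N, z = y * x ^ i := by
    have hred : ∀ (i : ℕ) (y : H), y ∈ N → ∃ j, j < r ∧ ∃ y' ∈ N, y * x ^ i = y' * x ^ j := by
      intro i y hy
      refine ⟨i % r, Nat.mod_lt _ hr, y, hy, ?_⟩
      conv_lhs => rw [← Nat.div_add_mod i r, pow_add, pow_mul, hx, one_pow, one_mul]
    intro z hz
    induction hz using Subgroup.closure_induction with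
    | mem z hz =>
      rcases hz with hz | hz
      · rw [Set.mem_singleton_iff] at hz
        subst hz
        have := hred 1 1 (one_mem _)
        simpa using this
      · exact ⟨0, hr, z, hz, by simp⟩
    | one => exact ⟨0, hr, 1, one_mem _, by simp⟩
    | mul z w _ _ hz hw =>
      obtain ⟨i, hi, y, hy, rfl⟩ := hz
      obtain ⟨j, hj, y', hy', rfl⟩ := hw
      have : y * x ^ i * (y' * x ^ j) = y * (x ^ i * y' * (x ^ i)⁻¹) * x ^ (i + j) := by
        rw [pow_add]; group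
      rw [this]
      exact hred _ _ (mul_mem hy (hsmul i y' hy'))
    | inv z _ hz =>
      obtain ⟨i, hi, y, hy, rfl⟩ := hz
      have h1 : (x ^ i)⁻¹ = x ^ (i * (r - 1)) := by
        rw [← inv_pow, hinv, ← pow_mul, mul_comm]
      have : (y * x ^ i)⁻¹ = x ^ (i * (r - 1)) * y⁻¹ * (x ^ (i * (r - 1)))⁻¹ * x ^ (i * (r - 1)) := by
        rw [_root_.mul_inv_rev, h1]; group
      rw [this]
      exact hred _ _ (hsmul _ _ (inv_mem hy))
  choose f hf1 g hg1 hg2 using hform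
  let Fm : Subgroup.closure ({x} ∪ (N : Set H)) → Fin r × N := fun z =>
    (⟨f z.1 z.2, hf1 z.1 z.2⟩, ⟨g z.1 z.2, hg1 z.1 z.2⟩)
  have hFm : Function.Injective Fm := by
    rintro ⟨a, ha⟩ ⟨b, hb⟩ h
    have h1 : f a ha = f b hb := congrArg Fin.val (congrArg Prod.fst h)
    have h2 : g a ha = g b hb := congrArg Subtype.val (congrArg Prod.snd h)
    apply Subtype.ext
    change a = b
    rw [hg2 a ha, hg2 b hb, h1, h2]
  refine ⟨Finite.of_injective Fm hFm, ?_⟩
  calc _ ≤ Nat.card (Fin r × N) := Nat.card_le_card_of_injective Fm hFm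
    _ = r * Nat.card N := by rw [Nat.card_prod, Nat.card_eq_fintype_card, Fintype.card_fin]

theorem card_le_of_le {A B : Subgroup H} [Finite B] (h : A ≤ B) : Finite A ∧ Nat.card A ≤ Nat.card B :=
  ⟨Finite.of_injective _ (Subgroup.inclusion_injective h),
    Nat.card_le_card_of_injective _ (Subgroup.inclusion_injective h)⟩

theorem tt_pow : tt ^ 4 = 1 := by
  have h : ev lw [0, 0, 0, 0] = tt ^ 4 := by
    change tt * (tt * (tt * (tt * 1))) = _
    rw [mul_one, ← pow_two, ← pow_succ', ← pow_succ']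
  have h1 : ev lw [0, 0, 0, 0] = 1 := by
    apply mat_inj
    have : mat (ev lw [0, 0, 0, 0]) = mat (lw 0) * (mat (lw 0) * (mat (lw 0) * (mat (lw 0) * 1))) := rfl
    rw [this, mat_lw, mat_one]
    decide +kernel
  rw [← h, h1]

/-- letters generate `D φ 0 (K / 4)` -/
theorem D_le_closure (φ : ℕ → (SU 2 F9 3 →* H)) {K m : ℕ} (hK : K = 4 * m) :
    D φ 0 m ≤ Subgroup.closure (L φ K '' {x | x < K}) := by
  rw [D, Subgroup.closure_le]
  rintro _ ⟨j, -, hj, a, rfl⟩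
  have ha : a ∈ Subgroup.closure {tt, cc} := by rw [ThreeRel.closure_eq_top]; trivial
  have htt : L φ K (4 * j) = φ j tt := by
    rw [L, if_pos (by omega)]
    have e1 : 4 * j / 4 = j := by omega
    have e2 : 4 * j % 4 = 0 := by omega
    rw [e1, e2]
    rfl
  have hcc : L φ K (4 * j + 2) = φ j cc := by
    rw [L, if_pos (by omega)]
    have e1 : (4 * j + 2) / 4 = j := by omega
    have e2 : (4 * j + 2) % 4 = 2 := by omega
    rw [e1, e2]
    rfl
  change φ j a ∈ _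
  induction ha using Subgroup.closure_induction with
  | mem b hb =>
    rcases hb with rfl | hb
    · rw [← htt]; exact Subgroup.subset_closure ⟨4 * j, (by omega : 4 * j < K), rfl⟩
    · rw [Set.mem_singleton_iff] at hb
      subst hb
      rw [← hcc]
      exact Subgroup.subset_closure ⟨4 * j + 2, (by omega : 4 * j + 2 < K), rfl⟩
  | one => rw [map_one]; exact one_mem _
  | mul b c _ _ hb hc => rw [map_mul]; exact mul_mem hb hc
  | inv b _ hb => rw [map_inv]; exact inv_mem hb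

/-- one step: from `D φ 1 m` to `⟨φ 0 tt, D φ 1 m⟩` -/
theorem step_torus {n m : ℕ} (hn : 3 ≤ n) (hm : m + 1 ≤ n) {φ : ℕ → (SU 2 F9 3 →* H)}
    {g : ℕ → (SU 3 F9 3 →* H)} (h : System hF9 n φ g) [Finite (D φ 1 m)] :
    Finite (Subgroup.closure ({φ 0 tt} ∪ (D φ 1 m : Set H))) ∧
      Nat.card (Subgroup.closure ({φ 0 tt} ∪ (D φ 1 m : Set H))) ≤ 4 * Nat.card (D φ 1 m) := by
  refine card_closure_insert_le (by norm_num) ?_ ?_
  · rw [← map_pow, tt_pow, map_one]
  · intro y hy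
    have h1 : D φ 1 m ≤ (D φ 1 m).comap (MulAut.conj (φ 0 tt)).toMonoidHom := by
      conv_lhs => rw [D]
      rw [Subgroup.closure_le]
      rintro _ ⟨j, hj1, hj2, a, rfl⟩
      change φ 0 tt * φ j a * (φ 0 tt)⁻¹ ∈ D φ 1 m
      by_cases hj : j = 1
      · subst hj
        obtain ⟨b, hb⟩ := conj_mem hn h a
        rw [← hb]
        exact mem_D le_rfl hj2 b
      · rw [h.comm 0 j (by omega) (by omega), mul_inv_cancel_right]
        exact mem_D hj1 hj2 a
    exact h1 hy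

theorem w_rel {φ : ℕ → (SU 2 F9 3 →* H)} {K : ℕ} (hK : 12 ≤ K) {w : List ℕ}
    (hw : ∀ y ∈ w, y < 12) (h : ev (L φ 12) w = 1) : ev (L φ K) w = 1 := by
  rw [← h]
  refine ev_congr fun y hy => ?_
  have := hw y hy
  rw [L, L, if_pos (by omega), if_pos this]

end Cfsg.Agent.Phan.ThreeNine
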