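import Cfsg.Agent.Phan.ThreeModel

/-!
# Letters of a Phan system over the field with nine elements

`L φ K y` : the value of the letter `y < K`; `okr n r` decides whether the word `r` is a consequence of the
axioms of a Phan system of rank `n` (`ev_eq_one_of_okr`).
-/

set_option autoImplicit false

namespace Cfsg.Agent.Phan.ThreeRel

open Matrix Cfsg Cfsg.Agent.Phan Cfsg.Agent.Phan.ThreeModel
open Cfsg.Agent.ChevalleyStructure.NineField
open Cfsg.Agent.SporadicRecognition.CosetCert Cfsg.Agent.SporadicRecognition.CosetCertHyp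

variable {H : Type*} [Group H]

/-- letters -/
def L (φ : ℕ → (SU 2 F9 3 →* H)) (K y : ℕ) : H := if y < K then φ (y / 4) (lw (y % 4)) else 1

/-- inverse letter -/
def iv (y : ℕ) : ℕ := if y % 2 = 0 then y + 1 else y - 1

theorem lw_iv (y : ℕ) (hy : y < 4) : lw y * lw (iv y) = 1 := by
  interval_cases y
  · exact mul_inv_cancel tt
  · exact inv_mul_cancel tt
  · exact mul_inv_cancel cc
  · exact inv_mul_cancel cc

theorem L_iv (φ : ℕ → (SU 2 F9 3 →* H)) {K : ℕ} (hK : K % 4 = 0) {y : ℕ} (hy : y < K) :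
    iv y < K ∧ L φ K y * L φ K (iv y) = 1 := by
  have h1 : iv y / 4 = y / 4 ∧ iv y % 4 = iv (y % 4) ∧ iv y < K := by
    unfold iv
    split <;> split <;> omega
  refine ⟨h1.2.2, ?_⟩
  rw [L, L, if_pos hy, if_pos h1.2.2, h1.1, h1.2.1, ← map_mul, lw_iv _ (by omega), map_one]

/-- word supported in the block `k` and trivial in `SU 3` -/
def okBlock (k : ℕ) (r : List ℕ) : Bool :=
  (r.all fun y => Nat.ble (4 * k) y && Nat.blt y (4 * k + 8)) && one3 (r.map fun y => y - 4 * k)

/-- commutator of letters of distant nodes -/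
def okComm (r : List ℕ) : Bool :=
  match r with
  | [a, b, c, d] => (c == iv a) && (d == iv b) && (Nat.ble (a / 4 + 2) (b / 4) || Nat.ble (b / 4 + 2) (a / 4))
  | _ => false

def okr (n K : ℕ) (r : List ℕ) : Bool :=
  (r.all fun y => Nat.blt y K) && (((List.range (n - 2)).any fun k => okBlock k r) || okComm r)

theorem ev_map {A B : Type*} [Group A] [Group B] (f : A →* B) (g : ℕ → A) (w : List ℕ) :
    f (ev g w) = ev (fun y => f (g y)) w := by
  induction w with
  | nil => rw [ev_nil, ev_nil, map_one]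
  | cons x w ih => rw [ev_cons, ev_cons, map_mul, ih]

theorem ev_congr {A : Type*} [Group A] {g g' : ℕ → A} {w : List ℕ} (h : ∀ y ∈ w, g y = g' y) :
    ev g w = ev g' w := by
  induction w with
  | nil => rfl
  | cons x w ih =>
    rw [ev_cons, ev_cons, h x (by simp), ih fun y hy => h y (by simp [hy])]

theorem ev_map_list {A : Type*} [Group A] (g : ℕ → A) (f : ℕ → ℕ) (w : List ℕ) :
    ev g (w.map f) = ev (fun y => g (f y)) w := by
  induction w with
  | nil => rfl
  | cons x w ih => rw [List.map_cons, ev_cons, ev_cons, ih]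

theorem ev_eq_one_of_okBlock {n K : ℕ} {φ : ℕ → (SU 2 F9 3 →* H)} {g : ℕ → (SU 3 F9 3 →* H)}
    (h : System hF9 n φ g) {k : ℕ} (hk : k + 3 ≤ n) {r : List ℕ} (hK : ∀ y ∈ r, y < K)
    (hr : okBlock k r = true) : ev (L φ K) r = 1 := by
  unfold okBlock at hr
  rw [Bool.and_eq_true, List.all_eq_true] at hr
  obtain ⟨h1, h2⟩ := hr
  have h3 : g k (ev s3 (r.map fun y => y - 4 * k)) = 1 := by rw [ev_eq_one_of_one3 h2, map_one]
  rw [ev_map, ev_map_list] at h3
  rw [← h3]
  refine ev_congr fun y hy => ?_
  have h4 := h1 y hy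
  rw [Bool.and_eq_true] at h4
  have h5 : 4 * k ≤ y := Nat.le_of_ble_eq_true h4.1
  have h6 : y < 4 * k + 8 := Nat.le_of_ble_eq_true h4.2
  rw [L, if_pos (hK y hy), s3]
  split
  · rename_i h7
    rw [h.left k hk]
    congr 2 <;> [skip; skip]
    · have : y / 4 = k := by omega
      rw [this]
    · omega
  · rename_i h7
    rw [h.right k hk]
    have h8 : y / 4 = k + 1 := by omega
    have h9 : y % 4 = y - 4 * k - 4 := by omega
    rw [h8, h9]

theorem ev_eq_one_of_okComm {n K : ℕ} {φ : ℕ → (SU 2 F9 3 →* H)} {g : ℕ → (SU 3 F9 3 →* H)}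
    (h : System hF9 n φ g) (hK4 : K % 4 = 0) (hKn : K + 4 ≤ 4 * n) {r : List ℕ} (hK : ∀ y ∈ r, y < K)
    (hr : okComm r = true) : ev (L φ K) r = 1 := by
  unfold okComm at hr
  split at hr
  · rename_i a b c d
    rw [Bool.and_eq_true, Bool.and_eq_true, beq_iff_eq, beq_iff_eq, Bool.or_eq_true] at hr
    obtain ⟨⟨rfl, rfl⟩, h3⟩ := hr
    have ha : a < K := hK a (by simp)
    have hb : b < K := hK b (by simp)
    have e1 : L φ K (iv a) = (L φ K a)⁻¹ := (inv_eq_of_mul_eq_one_right (L_iv φ hK4 ha).2).symm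
    have e2 : L φ K (iv b) = (L φ K b)⁻¹ := (inv_eq_of_mul_eq_one_right (L_iv φ hK4 hb).2).symm
    have e3 : L φ K a * L φ K b = L φ K b * L φ K a := by
      rw [L, L, if_pos ha, if_pos hb]
      rcases h3 with h3 | h3
      · exact h.comm _ _ (Nat.le_of_ble_eq_true h3) (by omega) _ _
      · exact (h.comm _ _ (Nat.le_of_ble_eq_true h3) (by omega) _ _).symm
    rw [ev_cons, ev_cons, ev_cons, ev_cons, ev_nil, mul_one, e1, e2, ← mul_assoc, e3]
    group
  · exact absurd hr (by simp)

theorem ev_eq_one_of_okr {n K : ℕ} {φ : ℕ → (SU 2 F9 3 →* H)} {g : ℕ → (SU 3 F9 3 →* H)}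
    (h : System hF9 n φ g) (hK4 : K % 4 = 0) (hKn : K + 4 ≤ 4 * n) {r : List ℕ}
    (hr : okr n K r = true) : ev (L φ K) r = 1 := by
  unfold okr at hr
  rw [Bool.and_eq_true, Bool.or_eq_true] at hr
  have h1 := all_lt hr.1
  rcases hr.2 with h2 | h2
  · rw [List.any_eq_true] at h2
    obtain ⟨k, hk, h3⟩ := h2
    rw [List.mem_range] at hk
    exact ev_eq_one_of_okBlock h (by omega) h1 h3
  · exact ev_eq_one_of_okComm h hK4 hKn h1 h2

/-! ### Generation of `SU 2` -/

/-- the words of `24` elements -/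
def words : List (List ℕ) :=
  ((List.range 4).flatMap fun i => (List.range 6).map fun j =>
    List.replicate i 0 ++ (match j with
      | 0 => [] | 1 => [2] | 2 => [3] | 3 => [2, 0] | 4 => [3, 0] | _ => [2, 0, 3]))

def col (w : List ℕ) : F9 × F9 := w.foldr act2 (1, 0)

theorem nodup_col : (words.map col).Nodup := by decide +kernel

theorem length_words : words.length = 24 := by decide +kernel

theorem card_SU2 : Nat.card (SU 2 F9 3) = 24 := by
  have h := Cfsg.Agent.S0278.result (F := F9) (q := 3) hF9 2 (by norm_num)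
  norm_num [Finset.prod_range_succ, Nat.even_iff] at h
  omega

theorem ev_lw_mulVec (w : List ℕ) :
    mat (ev lw w) *ᵥ ![1, 0] = ![(col w).1, (col w).2] := by
  induction w with
  | nil => rw [ev_nil, mat_one, Matrix.one_mulVec]; rfl
  | cons x w ih =>
    rw [ev_cons, mat_mul, ← Matrix.mulVec_mulVec, ih, mat_lw_mulVec]
    rfl

theorem closure_eq_top : Subgroup.closure {tt, cc} = (⊤ : Subgroup (SU 2 F9 3)) := by
  have : Finite (SU 2 F9 3) := Nat.finite_of_card_ne_zero (by rw [card_SU2]; norm_num)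
  apply Subgroup.eq_top_of_le_card
  rw [card_SU2]
  have hl : ∀ y, lw y ∈ Subgroup.closure {tt, cc} := by
    intro y
    have h1 : tt ∈ Subgroup.closure {tt, cc} := Subgroup.subset_closure (by simp)
    have h2 : cc ∈ Subgroup.closure {tt, cc} := Subgroup.subset_closure (by simp)
    match y with
    | 0 => exact h1
    | 1 => exact inv_mem h1
    | 2 => exact h2
    | 3 => exact inv_mem h2
    | (n + 4) => exact one_mem _
  have hev : ∀ w, ev lw w ∈ Subgroup.closure {tt, cc} := by
    intro w
    induction w with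
    | nil => exact one_mem _
    | cons x w ih => rw [ev_cons]; exact mul_mem (hl x) ih
  let f : Fin words.length → Subgroup.closure {tt, cc} := fun i => ⟨ev lw (words.get i), hev _⟩
  have hf : Function.Injective f := by
    intro i j hij
    have h1 : ev lw (words.get i) = ev lw (words.get j) := congrArg Subtype.val hij
    have h2 := ev_lw_mulVec (words.get i)
    rw [h1, ev_lw_mulVec (words.get j)] at h2
    have h3 : col (words.get i) = col (words.get j) := by
      apply Prod.ext
      · exact (congrFun h2 0).symm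
      · exact (congrFun h2 1).symm
    have h4 := nodup_col
    rw [List.nodup_map_iff_inj_on] at h4
    · have h5 := h4 _ (List.get_mem words i) _ (List.get_mem words j) h3
      exact (List.nodup_iff_injective_get.mp (List.Nodup.of_map _ nodup_col)) h5
    · exact List.Nodup.of_map _ nodup_col
  calc 24 = Nat.card (Fin words.length) := by rw [Nat.card_eq_fintype_card, Fintype.card_fin, length_words]
    _ ≤ Nat.card (Subgroup.closure {tt, cc}) := Nat.card_le_card_of_injective f hf

end Cfsg.Agent.Phan.ThreeRel
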