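import Cfsg.Agent.Phan.ThreeRel
import Cfsg.Agent.Phan.ThreeUOne
import Cfsg.Agent.Phan.ThreeUTwo

/-!
# The two central words of a Phan system of rank four over the field with nine elements

`ev_w` : if an element of order three of `⟨φ 0, φ 1, φ 2⟩` centralising `φ 0, φ 1, φ 2` is trivial then the words
`w1`, `w2` (which generate the kernel `3²` of the universal completion onto `SU₄(3)`) are trivial.
-/

set_option autoImplicit false

namespace Cfsg.Agent.Phan.ThreeWord

open Matrix Cfsg Cfsg.Agent.Phan Cfsg.Agent.Phan.ThreeModel Cfsg.Agent.Phan.ThreeRel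
open Cfsg.Agent.ChevalleyStructure.NineField
open Cfsg.Agent.SporadicRecognition.CosetCert Cfsg.Agent.SporadicRecognition.CosetCertHyp

variable {H : Type*} [Group H]

def stepRed (y : ℕ) (acc : List ℕ) : List ℕ :=
  match acc with
  | [] => [y]
  | z :: t => if z == iv y then t else y :: z :: t

/-- free reduction -/
def redw (w : List ℕ) : List ℕ := w.foldr stepRed []

theorem ev_redw {g : ℕ → H} {w : List ℕ} (h : ∀ y ∈ w, g y * g (iv y) = 1) :
    ev g (redw w) = ev g w := by
  induction w with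
  | nil => rfl
  | cons y w ih =>
    have ih' := ih fun z hz => h z (by simp [hz])
    have hy := h y (by simp)
    rw [ev_cons, ← ih']
    change ev g (stepRed y (redw w)) = _
    unfold stepRed
    split
    · rename_i h1
      rw [h1, ev_cons]
    · rename_i z t h1
      rw [h1]
      split
      · rename_i h2
        rw [beq_iff_eq] at h2
        rw [ev_cons, h2, ← mul_assoc, hy, one_mul]
      · rw [ev_cons]

def x1 : List ℕ := [7, 2, 10, 6]
def y1 : List ℕ := [0, 6, 2, 10, 7, 1]
def x2 : List ℕ := [1, 3, 6, 5, 2, 11, 4, 7, 2, 0]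
def y2 : List ℕ := [3, 7, 2, 11, 6, 2]

/-- commutator word -/
def cw (x y : List ℕ) : List ℕ := invw iv x ++ invw iv y ++ x ++ y

def w1 : List ℕ := cw x1 y1
def w2 : List ℕ := cw x2 y2

theorem ev_inv {φ : ℕ → (SU 2 F9 3 →* H)} {K : ℕ} (hK : K % 4 = 0) (w : List ℕ)
    (hw : ∀ y ∈ w, y < K) : ev (L φ K) (invw iv w) = (ev (L φ K) w)⁻¹ :=
  ev_invw (g := L φ K) iv K (fun _ hx => L_iv φ hK hx) w hw

theorem cube_eq_one {u x y : H} (hu : u = x⁻¹ * y⁻¹ * x * y) (hx : x ^ 3 = 1) (hux : u * x = x * u) :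
    u ^ 3 = 1 := by
  have h1 : x * u = y⁻¹ * x * y := by rw [hu]; group
  have h2 : (x * u) ^ 3 = 1 := by
    rw [h1]
    have : (y⁻¹ * x * y) ^ 3 = y⁻¹ * x ^ 3 * y := by
      rw [pow_succ, pow_two, pow_succ, pow_two]; group
    rw [this, hx]
    group
  have h3 : Commute x u := hux.symm
  rwa [h3.mul_pow, hx, one_mul] at h2

theorem conj_cube {x y c : H} (hx : x ^ 3 = 1) (hy : y ^ 3 = 1) (hxy : x * y = y * x) :
    (c⁻¹ * (x * y) * c) ^ 3 = 1 := by
  have h : Commute x y := hxy
  have h1 : (c⁻¹ * (x * y) * c) ^ 3 = c⁻¹ * (x * y) ^ 3 * c := by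
    rw [pow_succ, pow_two, pow_succ (x * y), pow_two]; group
  rw [h1, h.mul_pow, hx, hy]
  group

theorem ev_cw {φ : ℕ → (SU 2 F9 3 →* H)} {K : ℕ} (hK : K % 4 = 0) {x y : List ℕ}
    (hx : ∀ z ∈ x, z < K) (hy : ∀ z ∈ y, z < K) :
    ev (L φ K) (cw x y) = (ev (L φ K) x)⁻¹ * (ev (L φ K) y)⁻¹ * ev (L φ K) x * ev (L φ K) y := by
  rw [cw, ev_append, ev_append, ev_append, ev_inv hK x hx, ev_inv hK y hy]

/-- the conclusion for a word `u` -/
theorem word_eq_one {φ : ℕ → (SU 2 F9 3 →* H)}
    (hz : ∀ x : H, x ∈ Subgroup.closure {y : H | ∃ j, j < 3 ∧ ∃ a, φ j a = y} →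
      (∀ j, j < 3 → ∀ a, φ j a * x = x * φ j a) → x ^ 3 = 1 → x = 1)
    (x y : List ℕ) (hx : ∀ z ∈ x, z < 12) (hy : ∀ z ∈ y, z < 12)
    (hx3 : ev (L φ 12) x ^ 3 = 1)
    (hc : ∀ z, z < 12 → z % 2 = 0 → ev (L φ 12) (redw (invw iv (cw x y) ++ iv z :: cw x y ++ [z])) = 1)
    (hcw : ∀ z ∈ cw x y, z < 12) : ev (L φ 12) (cw x y) = 1 := by
  set u := ev (L φ 12) (cw x y) with hu
  have hL : ∀ z, z < 12 → L φ 12 z * L φ 12 (iv z) = 1 := fun z h => (L_iv φ (by norm_num) h).2
  have hLi : ∀ z, z < 12 → iv z < 12 := fun z h => (L_iv φ (K := 12) (by norm_num) h).1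
  have hcom : ∀ z, z < 12 → z % 2 = 0 → L φ 12 z * u = u * L φ 12 z := by
    intro z hz1 hz2
    have h1 := hc z hz1 hz2
    rw [ev_redw] at h1
    · rw [ev_append, ev_append, ev_cons, ev_cons, ev_nil, mul_one,
        ev_inv (by norm_num) _ hcw, ← hu] at h1
      have h2 : L φ 12 (iv z) = (L φ 12 z)⁻¹ := (inv_eq_of_mul_eq_one_right (hL z hz1)).symm
      rw [h2] at h1
      have h3 : u⁻¹ * ((L φ 12 z)⁻¹ * u) * L φ 12 z = (L φ 12 z * u)⁻¹ * (u * L φ 12 z) := by group
      rw [h3, inv_mul_eq_one] at h1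
      exact h1
    · intro t ht
      apply hL
      simp only [List.mem_append, List.mem_cons, List.not_mem_nil, or_false] at ht
      rcases ht with (ht | (rfl | ht)) | rfl
      · unfold invw at ht
        rw [List.mem_reverse, List.mem_map] at ht
        obtain ⟨s, hs, rfl⟩ := ht
        exact hLi s (hcw s hs)
      · exact hLi z hz1
      · exact hcw t ht
      · exact hz1
  -- letters generate
  have htt : ∀ j, j < 3 → L φ 12 (4 * j) = φ j tt := by
    intro j hj
    rw [L, if_pos (by omega)]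
    have e1 : 4 * j / 4 = j := by omega
    have e2 : 4 * j % 4 = 0 := by omega
    rw [e1, e2]
    rfl
  have hcc : ∀ j, j < 3 → L φ 12 (4 * j + 2) = φ j cc := by
    intro j hj
    rw [L, if_pos (by omega)]
    have e1 : (4 * j + 2) / 4 = j := by omega
    have e2 : (4 * j + 2) % 4 = 2 := by omega
    rw [e1, e2]
    rfl
  have hcen : ∀ j, j < 3 → ∀ a, φ j a * u = u * φ j a := by
    intro j hj a
    have ha : a ∈ Subgroup.closure {tt, cc} := by rw [ThreeRel.closure_eq_top]; trivial
    change Commute (φ j a) u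
    induction ha using Subgroup.closure_induction with
    | mem b hb =>
      rcases hb with rfl | hb
      · have := hcom (4 * j) (by omega) (by omega)
        rwa [htt j hj] at this
      · rw [Set.mem_singleton_iff] at hb
        subst hb
        have := hcom (4 * j + 2) (by omega) (by omega)
        rwa [hcc j hj] at this
    | one => rw [map_one]; exact Commute.one_left _
    | mul b c _ _ hb hc => rw [map_mul]; exact hb.mul_left hc
    | inv b _ hb => rw [map_inv]; exact hb.inv_left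
  have hLmem : ∀ z, L φ 12 z ∈ Subgroup.closure {y : H | ∃ j, j < 3 ∧ ∃ a, φ j a = y} := by
    intro z
    unfold L
    split
    · exact Subgroup.subset_closure ⟨z / 4, by omega, _, rfl⟩
    · exact one_mem _
  have hevmem : ∀ w, ev (L φ 12) w ∈ Subgroup.closure {y : H | ∃ j, j < 3 ∧ ∃ a, φ j a = y} := by
    intro w
    induction w with
    | nil => exact one_mem _
    | cons x w ih => rw [ev_cons]; exact mul_mem (hLmem x) ih
  refine hz u (hevmem _) hcen ?_
  refine cube_eq_one (ev_cw (by norm_num) hx hy) hx3 ?_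
  -- u commutes with ev x
  have hcomL : ∀ z, Commute u (L φ 12 z) := by
    intro z
    unfold L
    split
    · exact (hcen _ (by omega) _).symm
    · exact Commute.one_right _
  have : ∀ w, Commute u (ev (L φ 12) w) := by
    intro w
    induction w with
    | nil => exact Commute.one_right _
    | cons x w ih => rw [ev_cons]; exact (hcomL x).mul_right ih
  exact this x

theorem lt_of_all {w : List ℕ} {K : ℕ} (h : (w.all fun y => Nat.blt y K) = true) : ∀ y ∈ w, y < K :=
  all_lt h

theorem ev_w {φ : ℕ → (SU 2 F9 3 →* H)} {g : ℕ → (SU 3 F9 3 →* H)} (h : System hF9 4 φ g)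
    (hz : ∀ x : H, x ∈ Subgroup.closure {y : H | ∃ j, j < 3 ∧ ∃ a, φ j a = y} →
      (∀ j, j < 3 → ∀ a, φ j a * x = x * φ j a) → x ^ 3 = 1 → x = 1) :
    ev (L φ 12) w1 = 1 ∧ ev (L φ 12) w2 = 1 := by
  have hrel : ∀ r, okr 4 12 r = true → ev (L φ 12) r = 1 := fun r hr =>
    ev_eq_one_of_okr h (by norm_num) (by norm_num) hr
  have hb3 : L φ 12 2 ^ 3 = 1 := by
    have := hrel [2, 2, 2] (by decide +kernel)
    rwa [ev_cons, ev_cons, ev_cons, ev_nil, mul_one, ← mul_assoc, ← pow_two, ← pow_succ] at this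
  have hf3 : L φ 12 10 ^ 3 = 1 := by
    have := hrel [10, 10, 10] (by decide +kernel)
    rwa [ev_cons, ev_cons, ev_cons, ev_nil, mul_one, ← mul_assoc, ← pow_two, ← pow_succ] at this
  have hF3 : L φ 12 11 ^ 3 = 1 := by
    have := hrel [11, 11, 11] (by decide +kernel)
    rwa [ev_cons, ev_cons, ev_cons, ev_nil, mul_one, ← mul_assoc, ← pow_two, ← pow_succ] at this
  have hL : ∀ z, z < 12 → L φ 12 z * L φ 12 (iv z) = 1 := fun z h => (L_iv φ (by norm_num) h).2
  have hbf : L φ 12 2 * L φ 12 10 = L φ 12 10 * L φ 12 2 := h.comm 0 2 (by norm_num) (by norm_num) _ _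
  have hbF : L φ 12 2 * L φ 12 11 = L φ 12 11 * L φ 12 2 := h.comm 0 2 (by norm_num) (by norm_num) _ _
  constructor
  · refine word_eq_one hz x1 y1 (lt_of_all (by decide +kernel)) (lt_of_all (by decide +kernel)) ?_ ?_
      (lt_of_all (by decide +kernel))
    · have e : ev (L φ 12) x1 = (L φ 12 6)⁻¹ * (L φ 12 2 * L φ 12 10) * L φ 12 6 := by
        have e1 : L φ 12 7 = (L φ 12 6)⁻¹ := (inv_eq_of_mul_eq_one_right (hL 6 (by norm_num))).symm
        rw [x1, ev_cons, ev_cons, ev_cons, ev_cons, ev_nil, mul_one, e1]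
        group
      rw [e]
      exact conj_cube hb3 hf3 hbf
    · intro z hz1 hz2
      refine ThreeUOne.eq_one (L φ 12) ?_ ?_ _ ?_
      · intro x hx
        have : ThreeUOneData.C.inv x = iv x := by
          have h0 : ∀ x, x < 12 → ThreeUOneData.C.inv x = iv x := by decide +kernel
          exact h0 x hx
        rw [this]
        exact hL x hx
      · intro r hr
        apply hrel
        have h0 : (ThreeUOneData.rels.all fun r => okr 4 12 r) = true := by decide +kernel
        exact List.all_eq_true.mp h0 r hr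
      · have h0 : ∀ z, z < 12 → z % 2 = 0 →
            redw (invw iv (cw x1 y1) ++ iv z :: cw x1 y1 ++ [z]) ∈ ThreeUOneData.targets := by
          decide +kernel
        exact h0 z hz1 hz2
  · refine word_eq_one hz x2 y2 (lt_of_all (by decide +kernel)) (lt_of_all (by decide +kernel)) ?_ ?_
      (lt_of_all (by decide +kernel))
    · have e : ev (L φ 12) x2 = (L φ 12 4 * L φ 12 7 * L φ 12 2 * L φ 12 0)⁻¹ *
          (L φ 12 2 * L φ 12 11) * (L φ 12 4 * L φ 12 7 * L φ 12 2 * L φ 12 0) := by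
        have e1 : L φ 12 1 = (L φ 12 0)⁻¹ := (inv_eq_of_mul_eq_one_right (hL 0 (by norm_num))).symm
        have e2 : L φ 12 3 = (L φ 12 2)⁻¹ := (inv_eq_of_mul_eq_one_right (hL 2 (by norm_num))).symm
        have e3 : L φ 12 7 = (L φ 12 6)⁻¹ := (inv_eq_of_mul_eq_one_right (hL 6 (by norm_num))).symm
        have e4 : L φ 12 5 = (L φ 12 4)⁻¹ := (inv_eq_of_mul_eq_one_right (hL 4 (by norm_num))).symm
        rw [x2, ev_cons, ev_cons, ev_cons, ev_cons, ev_cons, ev_cons, ev_cons, ev_cons, ev_cons,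
          ev_cons, ev_nil, mul_one, e1, e2, e3, e4]
        group
      rw [e]
      exact conj_cube hb3 hF3 hbF
    · intro z hz1 hz2
      refine ThreeUTwo.eq_one (L φ 12) ?_ ?_ _ ?_
      · intro x hx
        have : ThreeUTwoData.C.inv x = iv x := by
          have h0 : ∀ x, x < 12 → ThreeUTwoData.C.inv x = iv x := by decide +kernel
          exact h0 x hx
        rw [this]
        exact hL x hx
      · intro r hr
        apply hrel
        have h0 : (ThreeUTwoData.rels.all fun r => okr 4 12 r) = true := by decide +kernel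
        exact List.all_eq_true.mp h0 r hr
      · have h0 : ∀ z, z < 12 → z % 2 = 0 →
            redw (invw iv (cw x2 y2) ++ iv z :: cw x2 y2 ++ [z]) ∈ ThreeUTwoData.targets := by
          decide +kernel
        exact h0 z hz1 hz2

end Cfsg.Agent.Phan.ThreeWord
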