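import Cfsg.Agent.Phan.Common

/-!
# Triangles
-/

set_option autoImplicit false

namespace Cfsg.Agent.Phan

open Matrix Cfsg
open Cfsg.Agent.LieClassical.HermBasic

variable {F : Type*} [Field F] {q : ℕ} [Fintype F]

theorem cons_head_tail {n : ℕ} (v : Fin (n + 1) → F) :
    v = Fin.cons (v 0) (fun j => v j.succ) := by
  funext i
  refine Fin.cases ?_ (fun i => ?_) i
  · rw [Fin.cons_zero]
  · rw [Fin.cons_succ]

theorem emb_one_cons (hF : Fintype.card F = q ^ 2) {n : ℕ} (g : SU n F q) (a : F)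
    (v : Fin n → F) :
    mat (emb hF 1 (by omega : 1 + n ≤ n + 1) g) *ᵥ (Fin.cons a v) = Fin.cons a (mat g *ᵥ v) := by
  rw [emb_one_mulVec]
  simp only [Fin.cons_zero, Fin.cons_succ]

/-- points in the span of the first three basis vectors -/
theorem exists_su3 (hF : Fintype.card F = q ^ 2) {n : ℕ} (w : Pt (n + 3) F q) (a b c : F)
    (hw : w.val = Fin.cons a (Fin.cons b (Pi.single 0 c))) :
    ∃ x : SU 3 F q, emb hF 0 (by omega : 0 + 3 ≤ n + 3) x • e0 (n + 2) F q = w := by
  -- the vector in `F ^ 3`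
  have hsh : (sh 0 (by omega : 0 + 3 ≤ n + 3) : Fin 3 → Fin (n + 3)) = fun i => ⟨i, by omega⟩ := by
    funext i
    apply Fin.ext
    rw [sh_val]
    simp
  have hinc : ∀ a b c : F, inc F (sh 0 (by omega : 0 + 3 ≤ n + 3) : Fin 3 → Fin (n + 3)) *ᵥ
      ![a, b, c] = Fin.cons a (Fin.cons b (Pi.single 0 c)) := by
    intro a b c
    funext x
    have key : ∀ (i : Fin 3), (inc F (sh 0 (by omega : 0 + 3 ≤ n + 3) : Fin 3 → Fin (n + 3)) *ᵥ
        ![a, b, c]) (sh 0 (by omega : 0 + 3 ≤ n + 3) i) = ![a, b, c] i :=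
      fun i => inc_mulVec (sh_injective 0 _) _ i
    refine Fin.cases ?_ (fun x => ?_) x
    · rw [Fin.cons_zero]
      exact key 0
    · rw [Fin.cons_succ]
      refine Fin.cases ?_ (fun x => ?_) x
      · rw [Fin.cons_zero]
        exact key 1
      · rw [Fin.cons_succ]
        refine Fin.cases ?_ (fun x => ?_) x
        · rw [Pi.single_eq_same]
          exact key 2
        · rw [Pi.single_eq_of_ne (Fin.succ_ne_zero x), inc_mulVec_of_notMem]
          intro i hi
          have := congrArg Fin.val hi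
          rw [sh_val] at this
          simp only [Fin.val_succ] at this
          omega
  have hnorm : hermForm 3 F q ![a, b, c] ![a, b, c] = 1 := by
    rw [← herm_inc (sh_injective 0 (by omega : 0 + 3 ≤ n + 3)), hinc, ← hw, w.norm]
  obtain ⟨x, hx⟩ := exists_su_smul hF (e0 2 F q) (⟨![a, b, c], hnorm⟩ : Pt 3 F q)
  refine ⟨x, ?_⟩
  apply Pt.ext'
  have he : (e0 (n + 2) F q).val =
      inc F (sh 0 (by omega : 0 + 3 ≤ n + 3) : Fin 3 → Fin (n + 3)) *ᵥ (e0 2 F q).val := by
    have h1 : (e0 2 F q).val = ![1, 0, 0] := by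
      rw [e0_val]
      funext i
      fin_cases i <;> simp
    rw [h1, hinc, e0_val, single_zero_eq_cons]
    congr 1
    funext i
    refine Fin.cases ?_ (fun i => ?_) i
    · simp
    · simp
  rw [smul_val, he]
  change extM (sh 0 (by omega : 0 + 3 ≤ n + 3)) (mat x) *ᵥ _ = _
  rw [extM_inc (sh_injective 0 _)]
  have h2 : mat x *ᵥ (e0 2 F q).val = ![a, b, c] := congrArg Pt.val hx
  rw [h2, hinc, hw]

/-- **Good triangles**: `v, x` orthonormal, `u` with remaining norm nonzero. -/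
theorem exists_frame (hF : Fintype.card F = q ^ 2) {n : ℕ} (v x u : Pt (n + 4) F q)
    (hvx : hermForm (n + 4) F q v.val x.val = 0)
    (hu : hermForm (n + 4) F q u.val v.val * hermForm (n + 4) F q v.val u.val +
      hermForm (n + 4) F q u.val x.val * hermForm (n + 4) F q x.val u.val ≠ 1) :
    ∃ (g : SU (n + 4) F q) (x₁ x₂ x₃ : SU 3 F q),
      g • emb hF 0 (by omega : 0 + 3 ≤ n + 4) x₁ • e0 (n + 3) F q = v ∧
      g • emb hF 0 (by omega : 0 + 3 ≤ n + 4) x₂ • e0 (n + 3) F q = x ∧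
      g • emb hF 0 (by omega : 0 + 3 ≤ n + 4) x₃ • e0 (n + 3) F q = u := by
  obtain ⟨g₁, hg₁⟩ := exists_su_smul hF (e0 (n + 3) F q) v
  -- the second vector
  obtain ⟨k, hk⟩ : ∃ k : SU (n + 3) F q,
      mat k *ᵥ (Pi.single 0 1) = fun j => (g₁⁻¹ • x).val j.succ := by
    have h0 : (g₁⁻¹ • x).val 0 = 0 := by
      have h1 : hermForm (n + 4) F q (e0 (n + 3) F q).val (g₁⁻¹ • x).val = 0 := by
        have h2 := mat_isom g₁ (e0 (n + 3) F q).val (g₁⁻¹ • x).val
        have h3 : mat g₁ *ᵥ (e0 (n + 3) F q).val = v.val := congrArg Pt.val hg₁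
        have h4 : mat g₁ *ᵥ (g₁⁻¹ • x).val = x.val := by
          rw [← smul_val, smul_inv_smul]
        rw [h3, h4] at h2
        rw [← h2, hvx]
      rw [herm_e0_left] at h1
      exact (pow_q_eq_zero hF).1 h1
    have h5 := norm_eq_head hF (g₁⁻¹ • x)
    rw [h0, zero_mul, zero_add] at h5
    refine exists_su_map hF (n := n + 1) (u := Pi.single 0 1)
      (v := fun j : Fin (n + 3) => (g₁⁻¹ • x).val j.succ) ?_ ?_
    · rw [herm_single_left, Pi.single_eq_same, one_pow, mul_one]; exact h5.symm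
    · rw [herm_single_left, Pi.single_eq_same, one_pow, mul_one]; exact one_ne_zero
  have h0x : (g₁⁻¹ • x).val 0 = 0 := by
    have h2 := mat_isom g₁ (e0 (n + 3) F q).val (g₁⁻¹ • x).val
    have h3 : mat g₁ *ᵥ (e0 (n + 3) F q).val = v.val := congrArg Pt.val hg₁
    have h4 : mat g₁ *ᵥ (g₁⁻¹ • x).val = x.val := by
      rw [← smul_val, smul_inv_smul]
    rw [h3, h4, hvx, herm_e0_left] at h2
    exact (pow_q_eq_zero hF).1 h2.symm
  set g₂ := g₁ * emb hF 1 (by omega : 1 + (n + 3) ≤ n + 4) k with hg₂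
  have hv2 : g₂ • e0 (n + 3) F q = v := by rw [hg₂, mul_smul, emb_one_e0, hg₁]
  have hx2 : mat g₂ *ᵥ (Fin.cons 0 (Pi.single 0 1)) = x.val := by
    rw [hg₂, mat_mul, ← Matrix.mulVec_mulVec, emb_one_cons, hk]
    have h6 : (Fin.cons 0 (fun j => (g₁⁻¹ • x).val j.succ) : Fin (n + 4) → F) =
        (g₁⁻¹ • x).val := by
      conv_rhs => rw [cons_head_tail (g₁⁻¹ • x).val, h0x]
    rw [h6, ← smul_val, smul_inv_smul]
  -- the third vector
  set u' := g₂⁻¹ • u with hu'
  have huu : mat g₂ *ᵥ u'.val = u.val := by rw [← smul_val, hu', smul_inv_smul]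
  have ha : hermForm (n + 4) F q u.val v.val = u'.val 0 := by
    have h1 : mat g₂ *ᵥ (e0 (n + 3) F q).val = v.val := congrArg Pt.val hv2
    rw [← huu, ← h1, mat_isom, herm_e0_right hF]
  have hb : hermForm (n + 4) F q u.val x.val = u'.val 1 := by
    rw [← huu, ← hx2, mat_isom]
    have : (Fin.cons 0 (Pi.single 0 1) : Fin (n + 4) → F) = Pi.single 1 1 := by
      funext i
      refine Fin.cases ?_ (fun i => ?_) i
      · rw [Fin.cons_zero, Pi.single_eq_of_ne (by simp)]
      · rw [Fin.cons_succ]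
        refine Fin.cases ?_ (fun i => ?_) i
        · rw [Pi.single_eq_same]
          exact (Pi.single_eq_same (M := fun _ => F) (1 : Fin (n + 4)) 1).symm
        · rw [Pi.single_eq_of_ne (Fin.succ_ne_zero i), Pi.single_eq_of_ne]
          intro h
          have := congrArg Fin.val h
          simp at this
    rw [this, herm_single_right hF, one_pow, mul_one]
  set t : Fin (n + 2) → F := fun j => u'.val j.succ.succ with ht
  have hdec : u'.val = Fin.cons (u'.val 0) (Fin.cons (u'.val 1) t) := by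
    conv_lhs => rw [cons_head_tail u'.val, cons_head_tail (fun j => u'.val (Fin.succ j))]
    rfl
  have htn : hermForm (n + 2) F q t t ≠ 0 := by
    intro h0
    have h1 := u'.norm
    rw [hdec, herm_cons, herm_cons, h0, add_zero] at h1
    apply hu
    rw [herm_swap hF u.val v.val, herm_swap hF u.val x.val, ha, hb]
    exact h1
  obtain ⟨μ, hμ⟩ := exists_norm_eq hF (herm_self_pow hF t)
  obtain ⟨k', hk'⟩ := exists_su_map hF (n := n) (u := Pi.single 0 μ) (v := t) (by
    rw [herm_single_left, Pi.single_eq_same, hμ]) (by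
    rw [herm_single_left, Pi.single_eq_same, hμ]; exact htn)
  set m := emb hF 1 (by omega : 1 + (n + 3) ≤ n + 4)
    (emb hF 1 (by omega : 1 + (n + 2) ≤ n + 3) k') with hm
  have hmc : ∀ (a b : F) (w : Fin (n + 2) → F), mat m *ᵥ (Fin.cons a (Fin.cons b w)) =
      Fin.cons a (Fin.cons b (mat k' *ᵥ w)) := by
    intro a b w
    rw [hm, emb_one_cons, emb_one_cons]
  set g := g₂ * m with hg
  have key : ∀ (w : Pt (n + 4) F q) (a b c : F),
      mat g₂ *ᵥ (Fin.cons a (Fin.cons b (mat k' *ᵥ (Pi.single 0 c)))) = w.val →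
      ∃ y : SU 3 F q, g • emb hF 0 (by omega : 0 + 3 ≤ n + 4) y • e0 (n + 3) F q = w := by
    intro w a b c hw
    have h1 : mat g *ᵥ (Fin.cons a (Fin.cons b (Pi.single 0 c))) = w.val := by
      rw [hg, mat_mul, ← Matrix.mulVec_mulVec, hmc, hw]
    have h2 : (g⁻¹ • w).val = Fin.cons a (Fin.cons b (Pi.single 0 c)) := by
      rw [smul_val, ← h1, Matrix.mulVec_mulVec, mat_inv_mul, Matrix.one_mulVec]
    obtain ⟨y, hy⟩ := exists_su3 hF (n := n + 1) (g⁻¹ • w) a b c h2
    exact ⟨y, by rw [hy, smul_inv_smul]⟩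
  have hz : mat k' *ᵥ (Pi.single 0 0) = 0 := by rw [Pi.single_zero, Matrix.mulVec_zero]
  obtain ⟨x₁, hx₁⟩ := key v 1 0 0 (by
    rw [hz, ← hv2, smul_val, e0_val']
    congr 2
    funext i
    refine Fin.cases ?_ (fun i => ?_) i
    · rw [Fin.cons_zero]; rfl
    · rw [Fin.cons_succ]; rfl)
  obtain ⟨x₂, hx₂⟩ := key x 0 1 0 (by
    rw [hz, ← hx2, single_zero_eq_cons])
  obtain ⟨x₃, hx₃⟩ := key u (u'.val 0) (u'.val 1) μ (by
    rw [hk', ← hdec, huu])
  exact ⟨g, x₁, x₂, x₃, hx₁, hx₂, hx₃⟩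

/-- **The apex of the cone over a triangle.** -/
theorem exists_apex (hF : Fintype.card F = q ^ 2) (hq : 5 ≤ q) {n : ℕ} (v w u : Pt (n + 4) F q)
    (hvw : adj v w) (hvu : adj v u) (hwu : adj w u) :
    ∃ x : Pt (n + 4) F q, hermForm (n + 4) F q v.val x.val = 0 ∧
      hermForm (n + 4) F q w.val x.val = 0 ∧ adj u x ∧
      hermForm (n + 4) F q u.val v.val * hermForm (n + 4) F q v.val u.val +
        hermForm (n + 4) F q u.val x.val * hermForm (n + 4) F q x.val u.val ≠ 1 ∧
      hermForm (n + 4) F q u.val w.val * hermForm (n + 4) F q w.val u.val +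
        hermForm (n + 4) F q u.val x.val * hermForm (n + 4) F q x.val u.val ≠ 1 := by
  obtain ⟨g₁, hg₁⟩ := exists_su_smul hF (e0 (n + 3) F q) v
  have h1 : adj (e0 (n + 3) F q) (g₁⁻¹ • w) := by
    have := adj_smul g₁⁻¹ hvw
    rwa [← hg₁, inv_smul_smul] at this
  obtain ⟨k, a, hka⟩ := exists_of_adj hF (n := n + 1) _ h1
  set g := g₁ * emb hF 1 (by omega : 1 + (n + 3) ≤ n + 4) k with hg
  have hv : g • e0 (n + 3) F q = v := by rw [hg, mul_smul, emb_one_e0, hg₁]
  have hw : g • emb hF 0 (by omega : 0 + 2 ≤ n + 4) a • e0 (n + 3) F q = w := by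
    rw [hg, mul_smul, hka, smul_inv_smul]
  set u' := g⁻¹ • u with hu'
  have huu : g • u' = u := by rw [hu', smul_inv_smul]
  set r : Fin (n + 2) → F := fun j => u'.val j.succ.succ with hr
  have hc2 : 1 - hermForm (n + 4) F q u.val v.val * hermForm (n + 4) F q v.val u.val ≠ 0 :=
    sub_ne_zero.2 (Ne.symm (adj_symm hvu))
  have hc3 : 1 - hermForm (n + 4) F q u.val w.val * hermForm (n + 4) F q w.val u.val ≠ 0 :=
    sub_ne_zero.2 (Ne.symm (adj_symm hwu))
  obtain ⟨x'', γ, hγ, b1, b2, b3⟩ := exists_unit_avoid hF hq r 1 _ _ one_ne_zero hc2 hc3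
  have hx'n : hermForm (n + 4) F q (Fin.cons 0 (Fin.cons 0 x''.val))
      (Fin.cons 0 (Fin.cons 0 x''.val)) = 1 := by
    rw [herm_cons, herm_cons, x''.norm, zero_mul, zero_add, zero_add]
  set x' : Pt (n + 4) F q := ⟨Fin.cons 0 (Fin.cons 0 x''.val), hx'n⟩ with hx'
  have hisom : ∀ y z : Pt (n + 4) F q, hermForm (n + 4) F q (g • y).val (g • z).val =
      hermForm (n + 4) F q y.val z.val := fun y z => mat_isom g _ _
  have e1 : hermForm (n + 4) F q v.val (g • x').val = 0 := by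
    rw [← hv, hisom, hx', herm_e0_left]
    change ((Fin.cons 0 (Fin.cons 0 x''.val) : Fin (n + 4) → F) 0) ^ q = 0
    rw [Fin.cons_zero, zero_pow_q hF]
  have e2 : hermForm (n + 4) F q w.val (g • x').val = 0 := by
    rw [← hw, hisom, emb_zero_e0 hF (n := n + 2), hx']
    change hermForm (n + 4) F q _ (Fin.cons 0 (Fin.cons 0 x''.val)) = 0
    rw [herm_cons, single_zero_eq_cons, herm_cons, zero_pow_q hF, mul_zero, mul_zero, zero_add,
      zero_add, herm_zero_left]
  have e3 : hermForm (n + 4) F q (g • x').val u.val = γ := by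
    rw [← huu, hisom, hx']
    change hermForm (n + 4) F q (Fin.cons 0 (Fin.cons 0 x''.val)) u'.val = γ
    have hdec : u'.val = Fin.cons (u'.val 0) (Fin.cons (u'.val 1) r) := by
      conv_lhs => rw [cons_head_tail u'.val, cons_head_tail (fun j => u'.val (Fin.succ j))]
      rfl
    rw [hdec, herm_cons, herm_cons, zero_mul, zero_mul, zero_add, zero_add, hγ]
  have e4 : hermForm (n + 4) F q u.val (g • x').val = γ ^ q := by
    rw [herm_swap hF (g • x').val u.val, e3]
  refine ⟨g • x', e1, e2, ?_, ?_, ?_⟩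
  · rw [adj, e3, e4, mul_comm]
    exact b1
  · rw [e3, e4]
    intro h
    apply b2
    linear_combination h
  · rw [e3, e4]
    intro h
    apply b3
    linear_combination h

end Cfsg.Agent.Phan
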